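/-!
Recognition of Fi22, the module: certificates on the coded modules of SU(4, 2). Produced by an
enumeration of the 25920 elements; everything is checked again in `Checks`.

Owner: helper7 (for helper95).
-/

set_option autoImplicit false
set_option maxRecDepth 20000

namespace Cfsg.Agent.Lib.Fi22Recog95.Mod

/-- the involutions of the Sylow 2-subgroup -/
def invL : List (List Nat) :=
  [[5], [80], [85], [90], [95], [80, 5], [85, 5], [85, 80], [90, 5], [90, 80], [90, 85], [95,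
  5], [95, 80], [95, 85], [95, 90], [101, 96], [106, 96], [106, 101], [111, 96], [111, 101],
  [111, 106], [117, 112], [122, 112], [122, 117], [127, 112], [127, 117], [127, 122]]

/-- its elements of order four -/
def o4L : List (List Nat) :=
  [[101, 96, 80], [101, 96, 85], [106, 96, 80], [106, 96, 85], [106, 101, 80], [106, 101, 90],
  [111, 96, 80], [111, 96, 90], [111, 101, 80], [111, 101, 85], [111, 106, 80], [111, 106, 85],
  [117, 112, 80], [117, 112, 85], [122, 112, 80], [122, 112, 90], [122, 117, 80], [122, 117,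
  85], [127, 112, 80], [127, 112, 85], [127, 117, 80], [127, 117, 90], [127, 122, 80], [127,
  122, 85], [101, 96, 85, 80], [106, 96, 85, 80], [106, 101, 90, 80], [111, 96, 90, 80], [111,
  101, 85, 80], [111, 106, 85, 80], [117, 112, 85, 80], [122, 112, 90, 80], [122, 117, 85, 80],
  [127, 112, 85, 80], [127, 117, 90, 80], [127, 122, 85, 80]]

/-- the commuting pairs of transvections -/
def pairL : List (List Nat) :=
  [[5, 80], [5, 85], [5, 90], [5, 95], [5, 96], [5, 101], [5, 106], [5, 111], [5, 112], [5,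
  117], [5, 122], [5, 127], [6, 80], [6, 86], [6, 91], [6, 93], [6, 96], [6, 102], [6, 107], [6,
  109], [6, 112], [6, 118], [6, 123], [6, 125], [7, 80], [7, 87], [7, 89], [7, 94], [7, 96], [7,
  103], [7, 105], [7, 110], [7, 112], [7, 119], [7, 121], [7, 126], [17, 68], [17, 72], [17,
  76], [17, 85], [17, 89], [17, 93], [17, 102], [17, 106], [17, 110], [17, 119], [17, 123], [17,
  127], [18, 68], [18, 72], [18, 76], [18, 86], [18, 90], [18, 94], [18, 103], [18, 107], [18,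
  111], [18, 117], [18, 121], [18, 125], [19, 68], [19, 72], [19, 76], [19, 87], [19, 91], [19,
  95], [19, 101], [19, 105], [19, 109], [19, 118], [19, 122], [19, 126], [20, 65], [20, 66],
  [20, 67], [20, 85], [20, 86], [20, 87], [20, 105], [20, 106], [20, 107], [20, 125], [20, 126],
  [20, 127], [24, 65], [24, 66], [24, 67], [24, 89], [24, 90], [24, 91], [24, 109], [24, 110],
  [24, 111], [24, 117], [24, 118], [24, 119], [28, 65], [28, 66], [28, 67], [28, 93], [28, 94],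
  [28, 95], [28, 101], [28, 102], [28, 103], [28, 121], [28, 122], [28, 123], [65, 85], [65,
  89], [65, 93], [65, 101], [65, 105], [65, 109], [65, 117], [65, 121], [65, 125], [66, 86],
  [66, 90], [66, 94], [66, 102], [66, 106], [66, 110], [66, 118], [66, 122], [66, 126], [67,
  87], [67, 91], [67, 95], [67, 103], [67, 107], [67, 111], [67, 119], [67, 123], [67, 127],
  [68, 85], [68, 86], [68, 87], [68, 101], [68, 102], [68, 103], [68, 117], [68, 118], [68,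
  119], [72, 89], [72, 90], [72, 91], [72, 105], [72, 106], [72, 107], [72, 121], [72, 122],
  [72, 123], [76, 93], [76, 94], [76, 95], [76, 109], [76, 110], [76, 111], [76, 125], [76,
  126], [76, 127], [80, 85], [80, 86], [80, 87], [80, 89], [80, 90], [80, 91], [80, 93], [80,
  94], [80, 95], [85, 90], [85, 95], [85, 102], [85, 105], [85, 119], [85, 125], [86, 91], [86,
  93], [86, 103], [86, 106], [86, 117], [86, 126], [87, 89], [87, 94], [87, 101], [87, 107],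
  [87, 118], [87, 127], [89, 94], [89, 106], [89, 109], [89, 117], [89, 123], [90, 95], [90,
  107], [90, 110], [90, 118], [90, 121], [91, 93], [91, 105], [91, 111], [91, 119], [91, 122],
  [93, 101], [93, 110], [93, 121], [93, 127], [94, 102], [94, 111], [94, 122], [94, 125], [95,
  103], [95, 109], [95, 123], [95, 126], [96, 101], [96, 102], [96, 103], [96, 105], [96, 106],
  [96, 107], [96, 109], [96, 110], [96, 111], [101, 106], [101, 111], [101, 118], [101, 121],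
  [102, 107], [102, 109], [102, 119], [102, 122], [103, 105], [103, 110], [103, 117], [103,
  123], [105, 110], [105, 122], [105, 125], [106, 111], [106, 123], [106, 126], [107, 109],
  [107, 121], [107, 127], [109, 117], [109, 126], [110, 118], [110, 127], [111, 119], [111,
  125], [112, 117], [112, 118], [112, 119], [112, 121], [112, 122], [112, 123], [112, 125],
  [112, 126], [112, 127], [117, 122], [117, 127], [118, 123], [118, 125], [119, 121], [119,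
  126], [121, 126], [122, 127], [123, 125]]

/-- left multiplication by its generators -/
def sylTab : List (List Nat) :=
  [[1, 0, 6, 7, 9, 12, 2, 3, 15, 4, 14, 13, 5, 11, 10, 8, 21, 20, 19, 18, 17, 16, 27, 26, 25,
  24, 23, 22, 38, 39, 36, 37, 34, 35, 32, 33, 30, 31, 28, 29, 50, 51, 48, 49, 46, 47, 44, 45,
  42, 43, 40, 41, 57, 56, 55, 54, 53, 52, 63, 62, 61, 60, 59, 58], [2, 6, 0, 8, 10, 13, 1, 15,
  3, 14, 4, 12, 11, 5, 9, 7, 46, 40, 48, 42, 50, 44, 30, 34, 38, 28, 32, 36, 25, 61, 22, 58, 26,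
  62, 23, 59, 27, 63, 24, 60, 17, 53, 19, 55, 21, 57, 16, 52, 18, 54, 20, 56, 47, 41, 49, 43,
  51, 45, 31, 35, 39, 29, 33, 37], [3, 7, 8, 0, 11, 14, 15, 1, 2, 13, 12, 4, 10, 9, 5, 6, 45,
  51, 32, 34, 41, 47, 37, 42, 29, 39, 48, 31, 60, 24, 63, 27, 18, 54, 19, 55, 58, 22, 61, 25,
  56, 20, 23, 59, 52, 16, 57, 21, 26, 62, 53, 17, 44, 50, 33, 35, 40, 46, 36, 43, 28, 38, 49,
  30], [4, 9, 10, 11, 0, 15, 14, 13, 12, 1, 2, 3, 8, 7, 6, 5, 28, 31, 43, 49, 37, 38, 41, 33,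
  44, 46, 35, 51, 16, 52, 53, 17, 59, 23, 62, 26, 56, 20, 21, 57, 58, 22, 54, 18, 24, 60, 25,
  61, 55, 19, 63, 27, 29, 30, 42, 48, 36, 39, 40, 32, 45, 47, 34, 50], [16, 21, 28, 29, 46, 45,
  38, 39, 52, 44, 25, 61, 47, 60, 24, 57, 0, 18, 17, 20, 19, 1, 59, 56, 14, 10, 53, 62, 2, 3,
  32, 48, 30, 51, 36, 41, 34, 42, 6, 7, 43, 35, 37, 40, 9, 5, 4, 12, 31, 50, 49, 33, 8, 26, 63,
  58, 23, 15, 55, 22, 13, 11, 27, 54], [17, 20, 30, 31, 51, 40, 36, 37, 53, 41, 63, 27, 50, 22,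
  58, 56, 18, 0, 16, 21, 1, 19, 13, 57, 55, 54, 52, 11, 32, 48, 2, 3, 28, 46, 38, 44, 6, 7, 34,
  42, 5, 9, 39, 45, 35, 43, 33, 49, 29, 47, 12, 4, 26, 8, 25, 24, 15, 23, 14, 60, 59, 62, 61,
  10]]

/-- fixed point free elements of order three centralising the involutions -/
def natN : List (List Nat × List Nat) :=
  [([5], [85, 20, 7, 20, 80, 5, 20, 7, 80, 5, 20]), ([80], [85, 20, 7, 20, 80, 5, 20, 7, 80, 5,
  20]), ([85], [7, 20, 5, 7, 85, 7, 20, 5, 7, 80, 20]), ([90], [7, 85, 5, 7, 20, 80, 5, 20, 5]),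
  ([95], [7, 85, 5, 7, 20, 80, 5, 20, 5]), ([80, 5], [85, 20, 7, 20, 80, 5, 20, 7, 80, 5, 20]),
  ([85, 5], [7, 80, 5, 20, 7, 85, 7, 5, 20, 7, 20]), ([85, 80], [20, 7, 80, 20, 5, 7, 85, 7, 20,
  5, 7, 80, 5, 20, 5]), ([90, 5], [7, 5, 20, 7, 85, 80, 20, 7, 20, 80, 5, 20, 5]), ([90, 80],
  [7, 85, 5, 20, 7, 80, 5, 20, 7, 80, 5, 20, 5]), ([90, 85], [7, 5, 20, 7, 85, 7, 5, 20, 7, 80,
  5, 20, 5]), ([95, 5], [7, 20, 5, 7, 85, 7, 80, 5, 20, 5, 7, 80, 20]), ([95, 80], [7, 85, 20,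
  5, 7, 80, 20, 5, 7, 80, 20]), ([95, 85], [7, 20, 5, 7, 85, 7, 20, 5, 7, 80, 20]), ([95, 90],
  [7, 85, 5, 7, 20, 80, 5, 20, 5]), ([101, 96], [20, 7, 85, 7, 20, 80, 5, 20, 7, 5, 20]), ([106,
  96], [85, 7, 5, 20, 7, 80, 5, 20, 7, 85, 7, 20, 80]), ([106, 101], [7, 20, 80, 5, 20, 7, 85,
  80, 5]), ([111, 96], [80, 20, 5, 7, 85, 5, 7, 20, 5]), ([111, 101], [7, 80, 5, 20, 7, 85, 80,
  5, 20, 7, 20]), ([111, 106], [7, 20, 5, 7, 85, 80, 20, 5, 7, 5, 20, 80, 5]), ([117, 112], [85,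
  7, 5, 20, 5, 7, 85, 80, 20, 5, 7, 20, 5]), ([122, 112], [80, 20, 7, 85, 5, 7, 5, 20, 5]),
  ([122, 117], [20, 7, 20, 80, 5, 20, 7, 85, 7, 5, 20]), ([127, 112], [80, 20, 7, 85, 7, 20, 80,
  5, 20, 7, 5, 20, 80]), ([127, 117], [85, 7, 20, 80, 5, 20, 7, 80, 5]), ([127, 122], [7, 5, 20,
  7, 85, 80, 5, 20, 7, 20, 80])]

/-- elements of order three centralising the involutions, for the six-dimensional part -/
def sixN : List (List Nat × List Nat) :=
  [([5], [7, 20, 5, 7, 20, 5]), ([80], [20, 7, 80, 20, 5, 7, 20, 80, 5, 20]), ([85], [85, 7, 20,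
  5, 7, 85, 7, 20, 5, 7]), ([90], [85, 7, 80, 5, 20, 7, 85, 7, 80, 5, 20, 7, 80, 5, 20]), ([95],
  [85, 7, 20, 5, 7, 85, 7, 80, 20, 5, 7, 20, 80, 20, 5]), ([80, 5], [85, 20, 7, 20, 80, 5, 20,
  7, 80, 5, 20]), ([85, 5], [7, 80, 5, 20, 7, 85, 7, 5, 20, 7, 20]), ([85, 80], [20, 7, 80, 20,
  5, 7, 85, 7, 20, 5, 7, 80, 5, 20, 5]), ([90, 5], [7, 5, 20, 7, 85, 80, 20, 7, 20, 80, 5, 20,
  5]), ([90, 80], [7, 85, 5, 20, 7, 80, 5, 20, 7, 80, 5, 20, 5]), ([90, 85], [7, 5, 20, 7, 85,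
  7, 5, 20, 7, 80, 5, 20, 5]), ([95, 5], [7, 20, 5, 7, 85, 7, 80, 5, 20, 5, 7, 80, 20]), ([95,
  80], [7, 85, 20, 5, 7, 80, 20, 5, 7, 80, 20]), ([95, 85], [7, 20, 5, 7, 85, 7, 20, 5, 7, 80,
  20]), ([95, 90], [7, 85, 5, 7, 20, 80, 5, 20, 5]), ([101, 96], [20, 7, 85, 7, 20, 80, 5, 20,
  7, 5, 20]), ([106, 96], [85, 7, 5, 20, 7, 80, 5, 20, 7, 85, 7, 20, 80]), ([106, 101], [7, 20,
  80, 5, 20, 7, 85, 80, 5]), ([111, 96], [80, 20, 5, 7, 85, 5, 7, 20, 5]), ([111, 101], [7, 80,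
  5, 20, 7, 85, 80, 5, 20, 7, 20]), ([111, 106], [7, 20, 5, 7, 85, 80, 20, 5, 7, 5, 20, 80, 5]),
  ([117, 112], [85, 7, 5, 20, 5, 7, 85, 80, 20, 5, 7, 20, 5]), ([122, 112], [80, 20, 7, 85, 5,
  7, 5, 20, 5]), ([122, 117], [20, 7, 20, 80, 5, 20, 7, 85, 7, 5, 20]), ([127, 112], [80, 20, 7,
  85, 7, 20, 80, 5, 20, 7, 5, 20, 80]), ([127, 117], [85, 7, 20, 80, 5, 20, 7, 80, 5]), ([127,
  122], [7, 5, 20, 7, 85, 80, 5, 20, 7, 20, 80])]

/-- the reflection on the Sylow 2-subgroup -/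
def outTab : List Nat :=
  [0, 1, 2, 3, 5, 4, 6, 7, 8, 12, 13, 14, 9, 10, 11, 15, 17, 16, 18, 19, 21, 20, 25, 23, 27, 22,
  26, 24, 30, 31, 28, 29, 32, 43, 34, 49, 38, 39, 36, 37, 46, 47, 42, 33, 50, 51, 40, 41, 48,
  35, 44, 45, 53, 52, 59, 62, 57, 56, 61, 54, 63, 58, 55, 60]

/-- orbits of the stabilisers of the first basis codes -/
def descL : List (List (Nat × Bool × List Nat)) :=
  [[(1, false, []), (2, false, [20, 5, 7, 20]), (3, false, [20, 7, 5, 20]), (4, false, [20]),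
  (8, false, [5, 7, 20]), (12, false, [7, 5, 20]), (16, false, [5, 20]), (21, false, [7, 20, 80,
  5, 20, 7, 85, 5, 7, 20]), (22, false, [85, 20, 5, 7, 20]), (23, false, [85, 20, 7, 5, 20]),
  (25, false, [85, 5, 7, 20]), (26, true, [80, 20, 7, 85, 5, 7, 20]), (27, false, [80, 20, 7,
  85, 5, 7, 20]), (29, false, [85, 7, 5, 20]), (30, true, [5, 20, 7, 85, 5, 7, 20]), (31, false,
  [5, 20, 7, 85, 5, 7, 20]), (32, false, [5, 7, 5, 20]), (37, false, [85, 5, 7, 5, 20]), (38,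
  true, [20, 7, 85, 5, 7, 20]), (39, false, [20, 7, 85, 5, 7, 20]), (41, false, [20, 80, 5, 20,
  7, 85, 5, 7, 5, 20]), (42, false, [5, 7, 85, 20, 5, 7, 20]), (43, false, [5, 7, 85, 20, 7, 5,
  20]), (45, false, [7, 85, 5, 7, 20]), (46, false, [20, 5, 7, 85, 20, 7, 5, 20]), (47, false,
  [80, 20, 7, 85, 20, 5, 7, 20]), (48, false, [7, 20]), (53, false, [85, 7, 20]), (54, false,
  [20, 7, 85, 5, 7, 5, 20]), (55, true, [20, 7, 85, 5, 7, 5, 20]), (57, false, [7, 85, 5, 7, 5,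
  20]), (58, true, [20, 7, 85, 20, 5, 7, 20]), (59, false, [20, 7, 85, 20, 5, 7, 20]), (61,
  false, [20, 80, 5, 20, 7, 85, 5, 7, 20]), (62, false, [7, 85, 20, 5, 7, 20]), (63, false, [7,
  85, 20, 7, 5, 20])], [(2, false, []), (3, true, []), (22, false, [85]), (23, true, [85]), (26,
  true, [7, 20, 80, 5, 20, 7, 85]), (27, false, [7, 20, 80, 5, 20, 7, 85]), (30, false, [85, 7,
  20, 80, 5, 20, 7, 85]), (31, true, [85, 7, 20, 80, 5, 20, 7, 85]), (38, true, [7, 20, 80, 5,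
  20, 5, 7, 85]), (39, false, [7, 20, 80, 5, 20, 5, 7, 85]), (42, false, [5, 7, 85]), (43, true,
  [5, 7, 85]), (46, true, [20, 80, 5, 20, 7, 85]), (47, false, [20, 80, 5, 20, 7, 85]), (54,
  true, [5, 7, 20, 80, 5, 20, 7, 85]), (55, false, [5, 7, 20, 80, 5, 20, 7, 85]), (58, true,
  [20, 80, 5, 20, 5, 7, 85]), (59, false, [20, 80, 5, 20, 5, 7, 85]), (62, false, [7, 85]), (63,
  true, [7, 85])], [(4, false, []), (8, false, [5, 7]), (12, false, [7, 5]), (16, false, [5]),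
  (32, false, [5, 7, 5]), (48, false, [7])], [(8, false, []), (12, false, [80, 5])], [(16,
  false, []), (32, true, [7, 20, 80, 5, 20, 5, 7, 80]), (48, true, [5, 7, 20, 80, 5, 20, 7,
  5])], [(32, false, []), (48, true, [20, 80, 5, 20])]]

end Cfsg.Agent.Lib.Fi22Recog95.Mod
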