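import Cfsg.Agent.Lib.U62Cent47.Linear
import Cfsg.Agent.Lib.Fi22Recog95.Mod.Data

/-!
Recognition of Fi22, the module: the model of the outer elements in the six case, fixed codes.

Owner: helper7 (for helper95).
-/

set_option autoImplicit false

namespace Cfsg.Agent.Lib.Fi22Recog95.Mod

open Cfsg.Agent.Lib.U62Cent47

/-- the words of the involutions: transvections and commuting pairs of them -/
def invW : List (List Nat) := ptsL.map (fun a => [a]) ++ pairL

/-- the reflection at the code 1 on the six bits -/
def rAct (y : Nat) : Nat := y ^^^ (bif bB 0 y 1 then 1 else 0)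

/-- the involutive permutations of the trivial plane preserving its form -/
def sigL (m : Nat) : List (List Nat) :=
  [[0, 1, 2, 3], [0, 2, 1, 3], [0, 1, 3, 2], [0, 3, 2, 1]].filter fun s =>
    (List.range 4).all fun u => qU m (s.getD u 0) == qU m u

/-- an outer element: a word, then the reflection on six bits and a permutation of the plane -/
def oM (m : Nat) (s : List Nat) (w : List Nat) (n : Nat) : Nat :=
  rAct (wM m w n &&& 63) ^^^ ((s.getD (n >>> 6) 0) <<< 6)

/-- the number of fixed codes -/
def cFix (f : Nat → Nat) : Nat := ((List.range 256).filter fun n => f n == n).length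

/-- the number of codes fixed by both -/
def cFix2 (f g : Nat → Nat) : Nat :=
  ((List.range 256).filter fun n => f n == n && g n == n).length

/-- agreement on the basis codes -/
def eqB (f g : Nat → Nat) : Bool := (List.range 8).all fun j => f (2 ^ j) == g (2 ^ j)

end Cfsg.Agent.Lib.Fi22Recog95.Mod
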