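import Cfsg.Agent.Lib.Fi22Recog95.Mod.Frame
import Cfsg.Agent.Lib.Fi22Recog95.Mod.Model

/-!
Recognition of Fi22, the module: elements of `C(z)` as maps on the codes, fixed points and images.

Owner: helper7 (for helper95).
-/

set_option autoImplicit false
set_option linter.style.haveILetI false
set_option maxRecDepth 20000

namespace Cfsg.Agent.Lib.Fi22Recog95.Mod

open Cfsg.Agent.Lib.U62Cent47

universe u

variable {G : Type u} [Group G] {z a : G} {J H1 : Subgroup G}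

/-- `g` induces `f` on the codes of `J`. -/
def Acts (T : Frame z a J H1) (g : G) (f : Nat → Nat) : Prop :=
  ∀ j ∈ J, T.π (g * j * g⁻¹) = f (T.π j)

namespace Frame

variable (T : Frame z a J H1) (S : Hyp z a J)

theorem π_one : T.π 1 = 0 := (T.π_zero 1 (one_mem _)).2 (Or.inl rfl)

theorem π_inv {b : G} (hb : b ∈ J) : T.π b⁻¹ = T.π b := by
  have h := T.π_mul b hb b⁻¹ (inv_mem hb)
  rw [mul_inv_cancel, T.π_one] at h
  exact (Nat.xor_eq_zero_iff.1 h.symm).symm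

theorem inZ_div {b c : G} (hb : b ∈ J) (hc : c ∈ J) : InZ z a (b * c⁻¹) ↔ T.π b = T.π c := by
  rw [← T.π_zero _ (mul_mem hb (inv_mem hc)), T.π_mul b hb _ (inv_mem hc), T.π_inv hc,
    Nat.xor_eq_zero_iff]

theorem exists_word (h : ↥H1) : ∃ w, (∀ x ∈ w, x ∈ ptsL) ∧ wS w = T.φ h := by
  obtain ⟨w, hw, e⟩ := U62Cent47.exists_word (T.φ h)
  exact ⟨w, fun x hx => gen_pts x (hw x hx), e⟩

theorem acts_word {h : G} (hh : h ∈ H1) {w : List Nat} (hw : ∀ x ∈ w, x ∈ ptsL)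
    (e : wS w = T.φ ⟨h, hh⟩) : Acts T h (wM T.m w) := fun j hj => T.act ⟨h, hh⟩ w hw e j hj

theorem exists_acts {h : G} (hh : h ∈ H1) :
    ∃ w, (∀ x ∈ w, x ∈ ptsL) ∧ wS w = T.φ ⟨h, hh⟩ ∧ Acts T h (wM T.m w) := by
  obtain ⟨w, hw, e⟩ := T.exists_word ⟨h, hh⟩
  exact ⟨w, hw, e, T.acts_word hh hw e⟩

theorem exists_lift {w : List Nat} (hw : ∀ x ∈ w, x ∈ ptsL) :
    ∃ h, ∃ hh : h ∈ H1, T.φ ⟨h, hh⟩ = wS w ∧ Acts T h (wM T.m w) := by
  obtain ⟨⟨h, hh⟩, e⟩ := T.φ_surj (wS w)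
  exact ⟨h, hh, e, T.acts_word hh hw e.symm⟩

theorem div_mem {g h : G} (hg : g ∈ H1) (hh : h ∈ H1) (e : T.φ ⟨g, hg⟩ = T.φ ⟨h, hh⟩) :
    g * h⁻¹ ∈ J :=
  (T.φ_ker (⟨g, hg⟩ * ⟨h, hh⟩⁻¹)).1 (by rw [map_mul, map_inv, e, mul_inv_cancel])

theorem inv2_iff {h : G} (hh : h ∈ H1) :
    Inv2 J h ↔ T.φ ⟨h, hh⟩ * T.φ ⟨h, hh⟩ = 1 ∧ T.φ ⟨h, hh⟩ ≠ 1 := by
  rw [Inv2, ← map_mul, T.φ_ker, ne_eq, T.φ_ker]
  rfl

theorem acts_unique {g : G} {f f' : Nat → Nat} (h : Acts T g f) (h' : Acts T g f') :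
    ∀ n < 256, f n = f' n := fun n hn => by
  obtain ⟨j, hj, rfl⟩ := T.π_surj n hn
  rw [← h j hj, h' j hj]

theorem wM_congr {v w : List Nat} (hv : ∀ x ∈ v, x ∈ ptsL) (hw : ∀ x ∈ w, x ∈ ptsL)
    (e : wS v = wS w) : ∀ n < 256, wM T.m v n = wM T.m w n := by
  obtain ⟨h, hh, e', ha⟩ := T.exists_lift hv
  exact T.acts_unique ha (T.acts_word hh hw (e.symm.trans e'.symm))

theorem acts_congr {g : G} {f f' : Nat → Nat} (h : Acts T g f) (e : ∀ n < 256, f n = f' n) :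
    Acts T g f' := fun j hj => (h j hj).trans (e _ (T.π_lt j hj))

include S

theorem acts_mul {g k : G} {f f' : Nat → Nat} (hk : k ∈ cz z) (h : Acts T g f) (h' : Acts T k f') :
    Acts T (g * k) (fun n => f (f' n)) := fun j hj => by
  show T.π (g * k * j * (g * k)⁻¹) = f (f' (T.π j))
  rw [← h' j hj, ← h _ (S.norm _ hk _ hj)]
  congr 1
  group

theorem acts_lt {g : G} {f : Nat → Nat} (hg : g ∈ cz z) (h : Acts T g f) {n : Nat} (hn : n < 256) :
    f n < 256 := by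
  obtain ⟨j, hj, rfl⟩ := T.π_surj n hn
  rw [← h j hj]; exact T.π_lt _ (S.norm _ hg _ hj)

theorem acts_xor {g : G} {f : Nat → Nat} (hg : g ∈ cz z) (h : Acts T g f) {x y : Nat} (hx : x < 256)
    (hy : y < 256) : f (x ^^^ y) = f x ^^^ f y := by
  obtain ⟨b, hb, rfl⟩ := T.π_surj x hx
  obtain ⟨c, hc, rfl⟩ := T.π_surj y hy
  rw [← h b hb, ← h c hc, ← T.π_mul _ (S.norm _ hg _ hb) _ (S.norm _ hg _ hc),
    ← T.π_mul b hb c hc, ← h _ (mul_mem hb hc)]
  congr 1
  group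

theorem acts_zero {g : G} {f : Nat → Nat} (hg : g ∈ cz z) (h : Acts T g f) : f 0 = 0 := by
  have h1 := T.acts_xor S hg h (x := 0) (y := 0) (by norm_num) (by norm_num)
  rwa [Nat.xor_self, Nat.xor_self] at h1

theorem acts_q {g : G} {f : Nat → Nat} (hg : g ∈ cz z) (h : Acts T g f) {n : Nat} (hn : n < 256) :
    qB T.m (f n) = qB T.m n := by
  obtain ⟨b, hb, rfl⟩ := T.π_surj n hn
  rw [← h b hb]
  have h1 := T.sq _ (S.norm _ hg _ hb)
  have h2 := T.sq b hb
  rw [show g * b * g⁻¹ * (g * b * g⁻¹) = g * (b * b) * g⁻¹ by group, h2] at h1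
  cases e : qB T.m (T.π b) <;> cases e' : qB T.m (T.π (g * b * g⁻¹)) <;>
    simp [e, e', mem_cz_conj.1 hg, S.z_ne, S.z_ne.symm] at h1 ⊢

theorem acts_eqB {g : G} {f f' : Nat → Nat} (hg : g ∈ cz z) (h : Acts T g f)
    (hz : f' 0 = 0) (ha : ∀ x y, x < 256 → y < 256 → f' (x ^^^ y) = f' x ^^^ f' y)
    (e : ∀ j < 8, f (2 ^ j) = f' (2 ^ j)) : ∀ n < 256, f n = f' n := by
  intro n hn
  rw [map_bitsX (T.acts_zero S hg h) (fun x y hx hy => T.acts_xor S hg h hx hy) hn,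
    map_bitsX hz ha hn]
  unfold bitsX
  have key : ∀ l : List Nat, (∀ j ∈ l, j < 8) →
      l.foldr (fun j r => (bif n.testBit j then f (2 ^ j) else 0) ^^^ r) 0 =
        l.foldr (fun j r => (bif n.testBit j then f' (2 ^ j) else 0) ^^^ r) 0 := by
    intro l
    induction l with
    | nil => exact fun _ => rfl
    | cons j l ih =>
      intro hl
      simp only [List.foldr_cons, ih fun k hk => hl k (List.mem_cons_of_mem _ hk),
        e j (hl j List.mem_cons_self)]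
  exact key _ fun j hj => List.mem_range.1 hj

/-- two elements with the same action on the basis codes -/
theorem acts_eqB' {g k : G} {f f' : Nat → Nat} (hg : g ∈ cz z) (hk : k ∈ cz z) (h : Acts T g f)
    (h' : Acts T k f') (e : eqB f f' = true) : ∀ n < 256, f n = f' n := by
  simp only [eqB, List.all_eq_true, beq_iff_eq] at e
  exact T.acts_eqB S hg h (T.acts_zero S hk h') (fun x y hx hy => T.acts_xor S hk h' hx hy)
    fun j hj => e j (List.mem_range.2 hj)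

theorem faith {g : G} {f : Nat → Nat} (hg : g ∈ cza z a) (h : Acts T g f)
    (e : ∀ n < 256, f n = n) : g ∈ J := by
  refine S.mem_of_stab hg fun j hj => ⟨j⁻¹ * (g * j * g⁻¹), ?_, by rw [mul_inv_cancel_left]⟩
  have hgj := S.norm _ hg.1 _ hj
  refine (T.π_zero _ (mul_mem (inv_mem hj) hgj)).1 ?_
  rw [T.π_mul _ (inv_mem hj) _ hgj, T.π_inv hj, h j hj, e _ (T.π_lt j hj), Nat.xor_self]

theorem acts_J {j : G} (hj : j ∈ J) : Acts T j (fun n => n) := fun b hb => by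
  refine (T.inZ_div (mul_mem (mul_mem hj hb) (inv_mem hj)) hb).1 ?_
  rcases S.comJ hj hb with e | e <;> rw [e]
  · exact Or.inl rfl
  · exact Or.inr (Or.inl rfl)

theorem same_mem {g k : G} {f f' : Nat → Nat} (hg : g ∈ cza z a) (hk : k ∈ cza z a) (h : Acts T g f)
    (h' : Acts T k f') (e : ∀ n < 256, f n = f' n) : g * k⁻¹ ∈ J := by
  refine T.faith S (f := fun n => n) (mul_mem hg (inv_mem hk)) (fun j hj => ?_) fun n _ => rfl
  have hj' : k⁻¹ * j * k ∈ J := by simpa using S.norm _ (inv_mem hk.1) _ hj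
  have h1 := h _ hj'
  rw [show g * k⁻¹ * j * (g * k⁻¹)⁻¹ = g * (k⁻¹ * j * k) * g⁻¹ by group, h1, e _ (T.π_lt _ hj'),
    ← h' _ hj']
  congr 1
  group

theorem inv2_congr {g : G} {f : Nat → Nat} (hg : g ∈ cza z a) (h : Acts T g f) :
    g * g ∈ J ↔ ∀ n < 256, f (f n) = n := by
  refine ⟨fun h2 => ?_, fun e => T.faith S (mul_mem hg hg) (T.acts_mul S hg.1 h h) e⟩
  exact T.acts_unique (T.acts_mul S hg.1 h h) (T.acts_J S h2)

theorem commMod_iff {g k : G} {f f' : Nat → Nat} (hg : g ∈ cza z a) (hk : k ∈ cza z a)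
    (h : Acts T g f) (h' : Acts T k f') : CommMod J g k ↔ ∀ n < 256, f (f' n) = f' (f n) := by
  constructor
  · intro hc n hn
    have h1 := T.acts_mul S (mul_mem hk hg).1 (T.acts_J S hc) (T.acts_mul S hg.1 h' h)
    rw [show g * k * g⁻¹ * k⁻¹ * (k * g) = g * k by group] at h1
    exact (T.acts_unique (T.acts_mul S hk.1 h h') h1) n hn
  · intro e
    have := T.same_mem S (mul_mem hg hk) (mul_mem hk hg) (T.acts_mul S hk.1 h h') (T.acts_mul S hg.1 h' h) e
    rw [mul_inv_rev, ← mul_assoc] at this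
    exact this

theorem mem_CV {g : G} {f : Nat → Nat} (hg : g ∈ cz z) (h : Acts T g f) {j : G} :
    j ∈ CV z a J g ↔ j ∈ J ∧ f (T.π j) = T.π j := by
  refine and_congr_right fun hj => ?_
  rw [T.inZ_div (S.norm _ hg _ hj) hj, h j hj]

theorem mem_IV {g : G} {f : Nat → Nat} (hg : g ∈ cz z) (h : Acts T g f) {j : G} :
    j ∈ IV z a J g ↔ j ∈ J ∧ ∃ k < 256, f k ^^^ k = T.π j := by
  constructor
  · rintro ⟨k, hk, w, hw, rfl⟩
    have hgk := S.norm _ hg _ hk
    have hwJ := S.inZ_mem hw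
    refine ⟨mul_mem (mul_mem hgk (inv_mem hk)) hwJ, T.π k, T.π_lt k hk, ?_⟩
    rw [T.π_mul _ (mul_mem hgk (inv_mem hk)) w hwJ, T.π_mul _ hgk _ (inv_mem hk), T.π_inv hk,
      (T.π_zero w hwJ).2 hw, Nat.xor_zero, h k hk]
  · rintro ⟨hj, k, hk, e⟩
    obtain ⟨b, hb, rfl⟩ := T.π_surj k hk
    have hgb := mul_mem (S.norm _ hg _ hb) (inv_mem hb)
    refine ⟨b, hb, (g * b * g⁻¹ * b⁻¹)⁻¹ * j, ?_, by rw [mul_inv_cancel_left]⟩
    refine (T.π_zero _ (mul_mem (inv_mem hgb) hj)).1 ?_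
    rw [T.π_mul _ (inv_mem hgb) j hj, T.π_inv hgb, T.π_mul _ (S.norm _ hg _ hb) _ (inv_mem hb),
      T.π_inv hb, h b hb, e, Nat.xor_self]

/-- a subset of `J` cut out by codes -/
theorem card_code [Finite G] (p : Nat → Bool) :
    Nat.card ({j | j ∈ J ∧ p (T.π j) = true} : Set G) = 4 * ((List.range 256).filter p).length := by
  classical
  have := Fintype.ofFinite G
  set L := ((List.range 256).filter p).toFinset with hL
  have hlen : L.card = ((List.range 256).filter p).length :=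
    List.toFinset_card_of_nodup (List.Nodup.filter _ List.nodup_range)
  have hmem : ∀ {n}, n ∈ L ↔ n < 256 ∧ p n = true := fun {n} => by
    rw [hL, List.mem_toFinset, List.mem_filter, List.mem_range]
  set B := Finset.univ.filter fun j : G => j ∈ J ∧ p (T.π j) = true with hB
  have e : {j : G | j ∈ J ∧ p (T.π j) = true} = ↑B := by
    rw [hB, Finset.coe_filter]; simp
  have hf : ∀ n ∈ L, (B.filter fun j => T.π j = n).card = 4 := fun n hn => by
    obtain ⟨b, hb, hπ⟩ := T.π_surj n (hmem.1 hn).1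
    have hset : (B.filter fun j => T.π j = n) =
        ((Hyp.zs S : Set G).toFinset).image (fun w => w * b) := by
      ext j
      simp only [hB, Finset.mem_filter, Finset.mem_univ, true_and, Finset.mem_image, Set.mem_toFinset,
        SetLike.mem_coe]
      constructor
      · rintro ⟨⟨hj, -⟩, hjn⟩
        exact ⟨j * b⁻¹, (T.inZ_div hj hb).2 (hjn.trans hπ.symm), by group⟩
      · rintro ⟨w, hw, rfl⟩
        have hwJ := S.inZ_mem hw
        have he : T.π (w * b) = n := by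
          rw [T.π_mul w hwJ b hb, (T.π_zero w hwJ).2 hw, Nat.zero_xor, hπ]
        exact ⟨⟨mul_mem hwJ hb, by rw [he]; exact (hmem.1 hn).2⟩, he⟩
    rw [hset, Finset.card_image_of_injective _ (mul_left_injective b), ← Set.ncard_eq_toFinset_card',
      ← Nat.card_coe_set_eq]
    exact Hyp.card_zs S
  rw [e, Nat.card_coe_set_eq, Set.ncard_coe_finset,
    Finset.card_eq_sum_card_fiberwise (f := T.π) (t := L)
    (fun j hj => hmem.2 ⟨T.π_lt j (Finset.mem_filter.1 hj).2.1, (Finset.mem_filter.1 hj).2.2⟩),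
    Finset.sum_congr rfl hf, Finset.sum_const, smul_eq_mul, hlen, mul_comm]

theorem card_CV [Finite G] {g : G} {f : Nat → Nat} (hg : g ∈ cz z) (h : Acts T g f) :
    Nat.card (CV z a J g) = 4 * cFix f := by
  rw [cFix, ← T.card_code S]
  congr 2
  ext j
  rw [T.mem_CV S hg h]
  simp

theorem card_CV2 [Finite G] {g k : G} {f f' : Nat → Nat} (hg : g ∈ cz z) (hk : k ∈ cz z)
    (h : Acts T g f) (h' : Acts T k f') :
    Nat.card (CV z a J g ∩ CV z a J k : Set G) = 4 * cFix2 f f' := by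
  rw [cFix2, ← T.card_code S]
  congr 2
  ext j
  rw [Set.mem_inter_iff, T.mem_CV S hg h, T.mem_CV S hk h']
  simp only [Set.mem_ofPred_eq, Bool.and_eq_true, beq_iff_eq]
  tauto

end Frame

end Cfsg.Agent.Lib.Fi22Recog95.Mod
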