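import Cfsg.Agent.Lib.Fi22Recog95.Mod.Model

/-!
Recognition of Fi22, the module: the checks on the Sylow subgroup and on the natural module.

Owner: helper7 (for helper95).
-/

set_option autoImplicit false
set_option maxRecDepth 20000

namespace Cfsg.Agent.Lib.Fi22Recog95.Mod

open Cfsg.Agent.Lib.U62Cent47 Cfsg.Agent.Lib.U62Recog47

theorem sylGen_ok : sylGen.all (fun g => g.all (fun a => ptsL.contains a) && eqW (g ++ g) []) = true := by
  decide +kernel

theorem sylTab_ok : (List.range 6).all (fun g => (List.range 64).all fun i =>
    decide ((sylTab.getD g []).getD i 0 < 64) &&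
      eqW (sylGen.getD g [] ++ sylL.getD i []) (sylL.getD ((sylTab.getD g []).getD i 0) [])) = true := by
  decide +kernel

theorem sylL_nodup_ok :
    (sylL.map fun w => (List.range 8).map fun j => wN w (2 ^ j)).Nodup ∧ sylL.length = 64 := by
  decide +kernel

theorem sylL_cases_ok : sylL.all (fun w => w.all (fun a => ptsL.contains a) &&
    bif eqW (w ++ w) [] then eqW w [] || invL.contains w
    else o4L.contains w && eqW (w ++ w ++ (w ++ w)) []) = true := by
  decide +kernel

theorem invL_ok : invL.all (fun w => eqW (w ++ w) [] && !(eqW w []) &&
    ((w.length == 1 && ptsL.contains (w.getD 0 0)) ||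
      (w.length == 2 && ptsL.contains (w.getD 0 0) && ptsL.contains (w.getD 1 0) &&
        eqW [w.getD 0 0, w.getD 1 0] [w.getD 1 0, w.getD 0 0] &&
          !(eqW [w.getD 0 0] [w.getD 1 0])))) = true := by
  decide +kernel

theorem tv_conj_ok : genL.all (fun g => ptsL.all fun a => ptsL.any fun b => eqW [g, a, g] [b]) = true := by
  decide +kernel

theorem pairL_cover : ptsL.all (fun a => ptsL.all fun b =>
    !(decide (a < b) && eqW [a, b] [b, a]) || pairL.contains [a, b]) = true := by
  decide +kernel

theorem pairL_ok : pairL.all (fun w => w.all (fun a => ptsL.contains a) && w.length == 2 &&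
    eqW (w ++ w) [] && !(eqW w [])) = true := by
  decide +kernel

/-- the fixed codes of the involutions in the natural module -/
theorem natSize_ok : invL.all (fun w =>
    cFix (wM 2 w) == bif w.length == 1 then 64 else 16) = true := by
  decide +kernel

theorem natPairSize_ok : pairL.all (fun w => cFix (wM 2 w) == 16) = true := by
  decide +kernel

theorem natSingle_ok : ptsL.all (fun a => cFix (wM 2 [a]) == 64) = true := by
  decide +kernel

/-- the fixed plane of a rank two involution is totally singular and is the image -/
theorem natElem_ok : invL.all (fun w => w.length == 1 || (List.range 256).all fun n =>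
    !(wM 2 w n == n) || (!(qB 2 n) && (List.range 256).any fun k => wM 2 w k ^^^ k == n)) = true := by
  decide +kernel

theorem natN_ok : natN.all (fun e => e.2.all (fun a => ptsL.contains a) &&
    eqW (e.2 ++ e.2 ++ e.2) [] && eqW (e.1 ++ e.2) (e.2 ++ e.1) &&
      (List.range 256).all fun n => !(wM 2 e.2 n == n) || n == 0) = true := by
  decide +kernel

theorem natN_cover : invL.all (fun w => natN.any fun e => e.1 == w) = true := by decide +kernel

theorem natUnique_ok : natN.all (fun e => e.1.length == 1 || pairL.all fun g =>
    !((List.range 256).all fun n => !(wM 2 e.1 n == n) || wM 2 g n == n) ||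
      !(eqW (g ++ e.2) (e.2 ++ g)) || eqW g e.1) = true := by
  decide +kernel

theorem natRigid_ok : ptsL.all (fun a => ptsL.all fun b =>
    a == b || decide (cFix2 (wM 2 [a]) (wM 2 [b]) < 32)) = true := by
  decide +kernel

theorem natProd_ok : ptsL.all (fun a => ptsL.all fun b => !(eqW [a, b] [b, a]) ||
    ptsL.all fun c => !(eqW [a, b] [c])) = true := by
  decide +kernel

/-- the vectors fixed by the stabiliser of the code 5 form its line -/
theorem natLine_ok : (List.range 256).all (fun n =>
    !(stabN.all fun a => wM 2 [a] n == n) || [0, 5, 10, 15].contains n) = true := by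
  decide +kernel

/-- sums of two isotropic codes give everything -/
theorem natSpan_ok : (List.range 256).all (fun n => (List.range 256).any fun x =>
    hN x x == 0 && hN (n ^^^ x) (n ^^^ x) == 0) = true := by
  decide +kernel

end Cfsg.Agent.Lib.Fi22Recog95.Mod
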