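import Cfsg.Agent.Lib.Fi22Recog95.Mod.Model

/-!
Recognition of Fi22, the module: the elements of order five, generation by moves, splitting.

Owner: helper7 (for helper95).
-/

set_option autoImplicit false
set_option maxRecDepth 20000

namespace Cfsg.Agent.Lib.Fi22Recog95.Mod

open Cfsg.Agent.Lib.U62Cent47 Cfsg.Agent.Lib.U62Recog47

/-- an element of order five without fixed points -/
def fiveN : List Nat := [85, 7, 80, 20]

/-- its `i`th power -/
def fiveP (i : Nat) : List Nat := (List.replicate i fiveN).flatten

/-- the conjugate of a transvection by a power of it -/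
def fiveC (i a : Nat) : List Nat := fiveP i ++ [a] ++ (fiveP i).reverse

/-- a line -/
def fiveGood (a : Nat) : Bool :=
  (List.range 5).all (fun i => eqW ([a] ++ fiveC i a) (fiveC i a ++ [a])) &&
    eqW ([a] ++ fiveC 1 a ++ fiveC 2 a ++ fiveC 3 a ++ fiveC 4 a) []

/-- the ten transvections on its lines, each with a normalising word -/
def fiveL : List (Nat × List Nat × Nat × Nat) :=
  [(6, [], 1, 0), (28, [7, 20, 80], 2, 3), (65, [7, 20, 80], 2, 0), (93, [7, 20, 80], 2, 1),
  (101, [7, 20, 80], 2, 4), (112, [], 1, 3), (118, [], 1, 4), (121, [7, 20, 80], 2, 2),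
  (123, [], 1, 1), (125, [], 1, 2)]

theorem fiveN_ok : fiveN.all (fun a => ptsL.contains a) && eqW (fiveP 5) [] &&
    (List.range 256).all (fun n => !(wM 2 fiveN n == n) || n == 0) && !(eqW fiveN []) &&
    ptsL.contains 6 && fiveGood 6 = true := by
  decide +kernel

theorem fiveL_cover : ptsL.all (fun a => !(fiveGood a) || fiveL.any fun e => e.1 == a) = true := by
  decide +kernel

theorem fiveL_ok : fiveL.all (fun e => e.2.1.all (fun a => ptsL.contains a) &&
    eqW (e.2.1 ++ fiveN ++ e.2.1.reverse) (fiveP e.2.2.1) &&
    eqW (e.2.1 ++ [e.1] ++ e.2.1.reverse) (fiveC e.2.2.2 6)) = true := by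
  decide +kernel

/-- the basis is spanned by isotropic codes of the tree -/
theorem natBasis_ok : (List.range 8).all (fun j => (0 :: 5 :: natTree.map fun e => e.1).any fun x =>
    (0 :: 5 :: natTree.map fun e => e.1).contains (2 ^ j ^^^ x)) = true := by
  decide +kernel

theorem natTree_step_ok : natTree.all (fun e => U62Cent47.genL.contains e.2.2 && tN e.2.2 e.2.1 == e.1) = true := by
  decide +kernel

/-- the six bits are spanned by moves -/
theorem sixMove_ok :
    let L := (ptsL.flatMap fun a => (List.range 64).map fun k => wM 0 [a] k ^^^ k).eraseDups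
    (List.range 6).all (fun j => L.any fun x => L.contains (2 ^ j ^^^ x)) = true := by
  decide +kernel

theorem sixRefl_ok : ptsL.all (fun a => ptsL.any fun b =>
    (List.range 6).all fun j => rAct (wM 0 [a] (rAct (2 ^ j))) == wM 0 [b] (2 ^ j)) = true := by
  decide +kernel

/-- fixed codes are moves of a centralising element on fixed codes, and images -/
theorem sixSplit_ok : sixN.all (fun e => (List.range 64).all fun y => !(wM 0 e.1 y == y) ||
    (List.range 64).any fun x => wM 0 e.1 x == x &&
      (List.range 64).any fun k => (wM 0 e.2 x ^^^ x) ^^^ (wM 0 e.1 k ^^^ k) == y) = true := by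
  decide +kernel

/-- the scalars commuting with transvections -/
theorem smN_comm_ok : (List.range 4).all (fun l => U62Cent47.genL.all fun a => (List.range 256).all fun n =>
    tN a (smN l n) == smN l (tN a n)) = true := by
  decide +kernel

theorem codes_256 : List.range 256 =
    (List.range 4).flatMap (fun u => (List.range 64).map fun y => y ^^^ (u <<< 6)) := by
  decide +kernel

theorem bits_split_ok : (List.range 256).all (fun n =>
    decide (n &&& 63 < 64) && decide (n >>> 6 < 4) && (n &&& 63) ^^^ ((n >>> 6) <<< 6) == n &&
      (n >>> 6) <<< 6 == n &&& 192) = true := by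
  decide +kernel

end Cfsg.Agent.Lib.Fi22Recog95.Mod
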