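import Cfsg.Agent.Lib.Fi22Recog95.Mod.Model

/-!
Recognition of Fi22, the module: the checks on outer elements of the six case against inner
involutions. The part of an element on the six bits and the part on the plane are checked apart.

Owner: helper7 (for helper95).
-/

set_option autoImplicit false
set_option maxRecDepth 20000

namespace Cfsg.Agent.Lib.Fi22Recog95.Mod

open Cfsg.Agent.Lib.U62Cent47

/-- the six-bit part of an outer element -/
def o6 (t : List Nat) (y : Nat) : Nat := rAct (wM 0 t y)

/-- agreement on the six basis bits -/
def eq6 (f g : Nat → Nat) : Bool := (List.range 6).all fun j => f (2 ^ j) == g (2 ^ j)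

/-- the number of six-bit codes fixed by both -/
def c6Fix2 (f g : Nat → Nat) : Nat :=
  ((List.range 64).filter fun n => f n == n && g n == n).length

/-- Outer elements of order four: a commuting involution fixing `32` codes on the whole module is the
square. The plane part fixes two or four codes. -/
theorem sixFourComm_outer_ok : sylL.all (fun t =>
    eq6 (fun n => o6 t (o6 t n)) id || invW.all fun x =>
      !(eq6 (fun n => o6 t (wM 0 x n)) (fun n => wM 0 x (o6 t n))) ||
        eq6 (fun n => o6 t (o6 t n)) (wM 0 x) || decide (c6Fix2 (o6 t) (wM 0 x) < 8)) = true := by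
  decide +kernel

/-- An outer involution with trivial plane part, and with a moving one: a commuting involution fixing
enough fixes a non-singular image. -/
theorem sixOuterInv_ok : sylL.all (fun t =>
    !(eq6 (fun n => o6 t (o6 t n)) id) || invW.all fun x =>
      !(eq6 (fun n => o6 t (wM 0 x n)) (fun n => wM 0 x (o6 t n))) ||
        decide (c6Fix2 (o6 t) (wM 0 x) < 8) ||
          ((List.range 64).any fun k => wM 0 x (o6 t k ^^^ k) == o6 t k ^^^ k && qB 0 (o6 t k ^^^ k))) = true := by
  decide +kernel

end Cfsg.Agent.Lib.Fi22Recog95.Mod
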