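import Cfsg.Agent.Lib.Fi22Recog95.Mod.Model

/-!
Recognition of Fi22, the module: the checks on the six-dimensional module and its plane.

Owner: helper7 (for helper95).
-/

set_option autoImplicit false
set_option maxRecDepth 20000

namespace Cfsg.Agent.Lib.Fi22Recog95.Mod

open Cfsg.Agent.Lib.U62Cent47

theorem sixSize_ok : invL.all (fun w => cFix (wM 0 w) == 64) = true := by decide +kernel

theorem sixN_ok : sixN.all (fun e => e.2.all (fun a => ptsL.contains a) &&
    eqW (e.2 ++ e.2 ++ e.2) [] && eqW (e.1 ++ e.2) (e.2 ++ e.1) &&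
      (List.range 64).all fun n => !(wM 0 e.1 n == n) || !(wM 0 e.2 n == n) ||
        (List.range 64).any fun k => wM 0 e.1 k ^^^ k == n) = true := by
  decide +kernel

theorem sixN_cover : invL.all (fun w => sixN.any fun e => e.1 == w) = true := by decide +kernel

theorem sixSing_ok : sixN.all (fun e =>
    ((List.range 64).any fun k => qB 0 (wM 0 e.1 k ^^^ k)) ||
      (List.range 64).all fun k => !(wM 0 e.2 (wM 0 e.1 k ^^^ k) == wM 0 e.1 k ^^^ k) ||
        wM 0 e.1 k ^^^ k == 0) = true := by
  decide +kernel

theorem sixFour_inner_ok : o4L.all (fun w => decide (cFix (wM 0 w) ≤ 16)) = true := by decide +kernel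

theorem sixFour_outer_ok : [0, 1].all (fun m => (sigL m).all fun s => sylL.all fun t =>
    eqB (fun n => oM m s t (oM m s t n)) id || decide (cFix (oM m s t) ≤ 32)) = true := by
  decide +kernel

theorem sixFourComm_inner_ok : o4L.all (fun w => invW.all fun x =>
    !(eqB (fun n => wM 0 w (wM 0 x n)) (fun n => wM 0 x (wM 0 w n))) ||
      eqB (fun n => wM 0 w (wM 0 w n)) (wM 0 x) ||
        decide (cFix2 (wM 0 w) (wM 0 x) < 32)) = true := by
  decide +kernel

theorem sixOuterTab_ok : (List.range 64).all (fun i => decide (outTab.getD i 0 < 64) &&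
    (List.range 6).all fun j =>
      rAct (wM 0 (sylL.getD i []) (rAct (2 ^ j))) == wM 0 (sylL.getD (outTab.getD i 0) []) (2 ^ j)) = true := by
  decide +kernel

theorem rAct_ok : (List.range 64).all (fun y => decide (rAct y < 64) && rAct (rAct y) == y &&
    qB 0 (rAct y) == qB 0 y && (List.range 6).all fun j => rAct (y ^^^ 2 ^ j) == rAct y ^^^ rAct (2 ^ j)) = true := by
  decide +kernel

/-- the fixed points of all transvections are the trivial plane -/
theorem sixFixed_ok : (List.range 256).all (fun n =>
    (genL.all fun a => wM 0 [a] n == n) == (n &&& 63 == 0)) = true := by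
  decide +kernel

theorem desc_cover : (List.range 6).all (fun i => (List.range 64).all fun y =>
    y == 0 || !(qB 0 y == qB 0 (2 ^ i)) ||
      !((List.range i).all fun j => bB 0 y (2 ^ j) == bB 0 (2 ^ i) (2 ^ j)) ||
        (descL.getD i []).any fun e => e.1 == y) = true := by
  decide +kernel

theorem desc_ok : (List.range 6).all (fun i => (descL.getD i []).all fun e =>
    e.2.2.all (fun a => ptsL.contains a) &&
      (List.range i).all (fun j =>
        (bif e.2.1 then rAct (wM 0 e.2.2 (2 ^ j)) else wM 0 e.2.2 (2 ^ j)) == 2 ^ j) &&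
      (bif e.2.1 then rAct (wM 0 e.2.2 (2 ^ i)) else wM 0 e.2.2 (2 ^ i)) == e.1) = true := by
  decide +kernel

end Cfsg.Agent.Lib.Fi22Recog95.Mod
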