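import Cfsg.Agent.Lib.Fi22Recog95.Iface
import Cfsg.Agent.Lib.U62Cent47.Ctx
import Cfsg.Agent.Lib.AutPSp.Main

/-!
Recognition of Fi22, the module: the subgroup of index two over the inner automorphisms of PSp4(3).

Owner: helper7 (for helper95).
-/

set_option autoImplicit false
set_option linter.style.haveILetI false

namespace Cfsg.Agent.Lib.Fi22Recog95.Mod

open Cfsg.Agent.Lib.U62Cent47

variable {F : Type*} [Field F] [Fintype F]

theorem psp_iso (hF : Fintype.card F = 3) : Nonempty (SU4 ≃* Cfsg.PSp 2 F) := by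
  obtain ⟨i⟩ := U42.iso (F := G24.K4) (K := F) (by rw [G24.K4.card_eq]) hF
  exact ⟨psuEquiv.trans i⟩

theorem psp_card (hF : Fintype.card F = 3) : Nat.card (Cfsg.PSp 2 F) = 25920 := by
  have h := Symplectic.card_psp (F := F) (q := 3) (by rw [Nat.card_eq_fintype_card, hF]) (m := 2) one_le_two
  norm_num [Finset.prod_range_succ] at h
  omega

theorem conj_injective (hF : Fintype.card F = 3) :
    Function.Injective (MulAut.conj : Cfsg.PSp 2 F →* MulAut (Cfsg.PSp 2 F)) := by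
  obtain ⟨i⟩ := psp_iso hF
  rw [injective_iff_map_eq_one]
  intro x hx
  have hc : i.symm x ∈ Subgroup.center SU4 := Subgroup.mem_center_iff.2 fun g => by
    have := congrArg (fun f : MulAut (Cfsg.PSp 2 F) => f (i g)) hx
    simp only [MulAut.conj_apply, MulAut.one_apply] at this
    have h2 := congrArg i.symm this
    simp only [map_mul, map_inv, MulEquiv.symm_apply_apply] at h2
    exact (mul_inv_eq_iff_eq_mul.1 h2).symm
  rw [center_SU4, Subgroup.mem_bot] at hc
  simpa using congrArg i hc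

theorem range_conj_index (hF : Fintype.card F = 3) :
    (MulAut.conj : Cfsg.PSp 2 F →* MulAut (Cfsg.PSp 2 F)).range.index = 2 := by
  haveI : Fact (Nat.Prime 3) := ⟨by norm_num⟩
  have h1 := AutPSp.card_mulAut_PSp (F := F) (p := 3) (f := 1) (by simpa using hF) (m := 2) le_rfl
    (fun _ => by norm_num)
  rw [psp_card hF] at h1
  have h2 := (MulAut.conj : Cfsg.PSp 2 F →* MulAut (Cfsg.PSp 2 F)).range.card_mul_index
  rw [← Nat.card_congr (MonoidHom.ofInjective (conj_injective hF)).toEquiv, psp_card hF, h1] at h2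
  norm_num at h2
  omega

omit [Fintype F] in
theorem range_conj_normal :
    (MulAut.conj : Cfsg.PSp 2 F →* MulAut (Cfsg.PSp 2 F)).range.Normal :=
  ⟨by
    rintro _ ⟨x, rfl⟩ g
    exact ⟨g x, by ext y; simp [MulAut.mul_apply, MulAut.conj_apply]⟩⟩

variable {G : Type*} [Group G] [Finite G] {z a : G} {J : Subgroup G}

omit [Finite G] in
/-- The subgroup over the inner automorphisms, with its map onto PSp4(3). -/
theorem exists_inner (S : Hyp z a J) (hF : Fintype.card F = 3) [(J.subgroupOf (cz z)).Normal]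
    (e : (↥(cz z) ⧸ J.subgroupOf (cz z)) ≃* MulAut (Cfsg.PSp 2 F)) :
    ∃ H1 : Subgroup G, Inner z a J H1 ∧ (∀ g ∈ cz z, (∀ h ∈ H1, CommMod J g h) → g ∈ J) ∧
      ∃ ψ : ↥H1 →* Cfsg.PSp 2 F, Function.Surjective ψ ∧ ∀ h : ↥H1, ψ h = 1 ↔ (h : G) ∈ J := by
  set f : ↥(cz z) →* MulAut (Cfsg.PSp 2 F) := e.toMonoidHom.comp (QuotientGroup.mk' _) with hfdef
  have hfs : Function.Surjective f := e.surjective.comp (QuotientGroup.mk'_surjective _)
  have hfk : ∀ h : ↥(cz z), f h = 1 ↔ (h : G) ∈ J := fun h => by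
    rw [hfdef, MonoidHom.comp_apply, MulEquiv.coe_toMonoidHom, EmbeddingLike.map_eq_one_iff,
      QuotientGroup.mk'_apply, QuotientGroup.eq_one_iff, Subgroup.mem_subgroupOf]
  set R := (MulAut.conj : Cfsg.PSp 2 F →* MulAut (Cfsg.PSp 2 F)).range with hR
  haveI : R.Normal := range_conj_normal
  set H1 := (R.comap f).map (cz z).subtype with hH1
  have hle : H1 ≤ cz z := Subgroup.map_subtype_le _
  have hmem : ∀ g (hg : g ∈ cz z), g ∈ H1 ↔ f ⟨g, hg⟩ ∈ R := fun g hg => by
    rw [hH1]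
    exact Subgroup.mem_map_iff_mem (x := ⟨g, hg⟩) (cz z).subtype_injective
  have hge : J ≤ H1 := fun j hj =>
    (hmem j (S.le hj)).2 (by rw [(hfk ⟨j, S.le hj⟩).2 hj]; exact one_mem _)
  -- the map onto PSp4(3)
  let g₁ : ↥H1 →* ↥R :=
    (f.comp (Subgroup.inclusion hle)).codRestrict R fun h => (hmem h.1 (hle h.2)).1 h.2
  let ψ : ↥H1 →* Cfsg.PSp 2 F :=
    (MonoidHom.ofInjective (conj_injective hF)).symm.toMonoidHom.comp g₁
  have hψk : ∀ h : ↥H1, ψ h = 1 ↔ (h : G) ∈ J := fun h => by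
    rw [MonoidHom.comp_apply, MulEquiv.coe_toMonoidHom, EmbeddingLike.map_eq_one_iff, Subtype.ext_iff]
    exact hfk _
  have hψs : Function.Surjective ψ := fun x => by
    obtain ⟨⟨g, hg⟩, hgx⟩ := hfs (MulAut.conj x)
    refine ⟨⟨g, (hmem g hg).2 ⟨x, hgx.symm⟩⟩, ?_⟩
    show (MonoidHom.ofInjective (conj_injective hF)).symm _ = x
    rw [MulEquiv.symm_apply_eq]
    exact Subtype.ext hgx
  obtain ⟨i⟩ := psp_iso hF
  let φ : ↥H1 →* SU4 := i.symm.toMonoidHom.comp ψ
  have hφs : Function.Surjective φ := i.symm.surjective.comp hψs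
  have hφk : ∀ h : ↥H1, φ h = 1 ↔ (h : G) ∈ J := fun h => by
    show i.symm (ψ h) = 1 ↔ _
    rw [EmbeddingLike.map_eq_one_iff]; exact hψk h
  have simple : ∀ N : Subgroup G, J ≤ N → N ≤ H1 →
      (∀ g ∈ H1, ∀ n ∈ N, g * n * g⁻¹ ∈ N) → N = J ∨ N = H1 := by
    intro N hJN hN hn
    haveI : (N.subgroupOf H1).Normal := ⟨fun n h g => hn g g.2 n h⟩
    haveI := simple_SU4
    rcases (Subgroup.Normal.map (H := N.subgroupOf H1) inferInstance φ hφs).eq_bot_or_eq_top with h | h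
    · refine Or.inl (le_antisymm (fun n hn' => (hφk ⟨n, hN hn'⟩).1 ?_) hJN)
      exact Subgroup.mem_bot.1 (h ▸ Subgroup.mem_map_of_mem φ (show (⟨n, hN hn'⟩ : ↥H1) ∈
        N.subgroupOf H1 from hn'))
    · refine Or.inr (le_antisymm hN fun g hg => ?_)
      obtain ⟨⟨n, hn1⟩, hn', e'⟩ := h.ge (Subgroup.mem_top (φ ⟨g, hg⟩))
      have : n⁻¹ * g ∈ J := (hφk (⟨n, hn1⟩⁻¹ * ⟨g, hg⟩)).1 (by
        rw [map_mul, map_inv, e', inv_mul_cancel])
      have hn2 : n ∈ N := hn'
      simpa using N.mul_mem hn2 (hJN this)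
  have cent : ∀ g ∈ cz z, (∀ h ∈ H1, CommMod J g h) → g ∈ J := by
    intro g hg hc
    refine (hfk ⟨g, hg⟩).1 (MulEquiv.ext fun x => conj_injective hF ?_)
    obtain ⟨⟨h, hh⟩, hx⟩ := hfs (MulAut.conj x)
    let g' : ↥(cz z) := ⟨g, hg⟩
    let h' : ↥(cz z) := ⟨h, hh⟩
    have h1 : f (g' * h' * g'⁻¹ * h'⁻¹) = 1 := (hfk _).2 (hc h ((hmem h hh).2 ⟨x, hx.symm⟩))
    rw [map_mul, map_mul, map_mul, map_inv, map_inv, show f h' = MulAut.conj x from hx, mul_inv_eq_one] at h1
    rw [MulAut.one_apply]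
    refine Eq.trans ?_ h1
    ext y
    simp [MulAut.mul_apply, MulAut.conj_apply, g']
  refine ⟨H1, ⟨?_, hge, ?_, ?_, ?_, simple⟩, cent, ψ, hψs, hψk⟩
  · -- the kernel of the action on `{a, z a}`
    have hN : ∀ g ∈ H1, ∀ n ∈ H1 ⊓ cza z a, g * n * g⁻¹ ∈ H1 ⊓ cza z a := fun g hg n hn =>
      Subgroup.mem_inf.2 ⟨mul_mem (mul_mem hg (Subgroup.mem_inf.1 hn).1) (inv_mem hg),
        S.cza_normal (hle hg) (Subgroup.mem_inf.1 hn).2⟩
    rcases simple (H1 ⊓ cza z a) (le_inf hge S.le_cza) inf_le_left hN with h | h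
    · exfalso
      -- every commutator of `H1` fixes `a`
      have hab : ∀ g k : ↥H1, φ g * φ k = φ k * φ g := by
        intro g k
        have hca : ∀ g : G, g ∈ cz z → g ∉ cz a → ∀ u, u ∈ cz z → u ∉ cz a → g * u ∈ cza z a :=
          fun g hg hga u hu hua => S.mul_mem_cza hg hu hga hua
        have hc : (g : G) * k * (g : G)⁻¹ * (k : G)⁻¹ ∈ cza z a := by
          have hgz := hle g.2
          have hkz := hle k.2
          refine Subgroup.mem_inf.2 ⟨mul_mem (mul_mem (mul_mem hgz hkz) (inv_mem hgz)) (inv_mem hkz), ?_⟩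
          by_cases h1 : (g : G) ∈ cz a <;> by_cases h2 : (k : G) ∈ cz a
          · exact mul_mem (mul_mem (mul_mem h1 h2) (inv_mem h1)) (inv_mem h2)
          · have := (S.cza_normal hkz (n := (g : G)⁻¹)
              (Subgroup.mem_inf.2 ⟨inv_mem hgz, inv_mem h1⟩)).2
            rw [show (g : G) * k * (g : G)⁻¹ * (k : G)⁻¹ = g * (k * (g : G)⁻¹ * (k : G)⁻¹) by group]
            exact mul_mem h1 this
          · exact mul_mem (S.cza_normal hgz (n := (k : G)) (Subgroup.mem_inf.2 ⟨hkz, h2⟩)).2 (inv_mem h2)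
          · have h3 := (hca _ hgz h1 _ hkz h2).2
            have h4 := (hca _ (inv_mem hgz) (fun e => h1 (by simpa using inv_mem e)) _ (inv_mem hkz)
              (fun e => h2 (by simpa using inv_mem e))).2
            rw [show (g : G) * k * (g : G)⁻¹ * (k : G)⁻¹ = g * k * ((g : G)⁻¹ * (k : G)⁻¹) by group]
            exact mul_mem h3 h4
        have hJ : (g : G) * k * (g : G)⁻¹ * (k : G)⁻¹ ∈ J :=
          h.le (Subgroup.mem_inf.2
            ⟨mul_mem (mul_mem (mul_mem g.2 k.2) (inv_mem g.2)) (inv_mem k.2), hc⟩)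
        have h1 := (hφk (g * k * g⁻¹ * k⁻¹)).2 hJ
        rw [map_mul, map_mul, map_mul, map_inv, map_inv, mul_inv_eq_one] at h1
        exact mul_inv_eq_iff_eq_mul.1 h1
      have hne : wS [5, 7] ≠ wS [7, 5] := fun h => by
        have h1 := congrArg (fun A => Matrix.mulVec (matOf A) (U62Recog47.vec 1)) h
        simp only [wS_vec (w := [5, 7]) (by decide +kernel), wS_vec (w := [7, 5]) (by decide +kernel)] at h1
        exact absurd (U62Recog47.vec_inj (wN_lt _ (by norm_num)) (wN_lt _ (by norm_num)) h1)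
          (by decide +kernel)
      obtain ⟨g, hg⟩ := hφs (tC 5)
      obtain ⟨k, hk⟩ := hφs (tC 7)
      apply hne
      have := hab g k
      rw [hg, hk] at this
      simpa [wS] using this
    · intro g hg
      exact (h.ge hg).2
  · intro g hg h hh
    have hh' := (hmem h (hle hh)).1 hh
    refine (hmem _ (mul_mem (mul_mem hg (hle hh)) (inv_mem hg))).2 ?_
    show f (⟨g, hg⟩ * ⟨h, hle hh⟩ * ⟨g, hg⟩⁻¹) ∈ R
    rw [map_mul, map_mul, map_inv]
    exact (inferInstance : R.Normal).conj_mem _ hh' _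
  · intro g hg h hh hg1 hh1
    refine (hmem _ (mul_mem hg hh)).2 ?_
    show f (⟨g, hg⟩ * ⟨h, hh⟩) ∈ R
    rw [map_mul, Subgroup.mul_mem_iff_of_index_two (range_conj_index hF)]
    exact ⟨fun h1 => absurd ((hmem g hg).2 h1) hg1, fun h1 => absurd ((hmem h hh).2 h1) hh1⟩
  · have h1 := (J.subgroupOf H1).card_mul_index
    rw [Nat.card_congr (Subgroup.subgroupOfEquivOfLe hge).toEquiv, S.card] at h1
    have hk : J.subgroupOf H1 = ψ.ker := Subgroup.ext fun h => (hψk h).symm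
    rw [hk, Subgroup.index_ker, MonoidHom.range_eq_top.2 hψs, Subgroup.card_top, psp_card hF] at h1
    exact h1.symm

end Cfsg.Agent.Lib.Fi22Recog95.Mod
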