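import Cfsg.Agent.Lib.Fi22Recog95.Core
import Cfsg.Agent.Lib.Fi22Recog95.Mod.Inner
import Cfsg.Agent.Lib.U62Cent47.Ctx

/-!
Recognition of Fi22, the module: coordinates of `J / {1, z, a, z a}` under `H1`, through the
extraspecial group `J / ⟨a⟩` inside `H1 / ⟨a⟩`.

Owner: helper7 (for helper95).
-/

set_option autoImplicit false
set_option linter.style.haveILetI false
set_option maxRecDepth 20000

open scoped commutatorElement

namespace Cfsg.Agent.Lib.Fi22Recog95.Mod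

open Cfsg.Agent.Lib.U62Cent47

universe u

/-- `J / {1, z, a, z a}` in coordinates, with the action of `H1`. -/
structure Frame {G : Type u} [Group G] (z a : G) (J H1 : Subgroup G) where
  inner : Inner z a J H1
  φ : ↥H1 →* SU4
  φ_surj : Function.Surjective φ
  φ_ker : ∀ h : ↥H1, φ h = 1 ↔ (h : G) ∈ J
  m : Nat
  hm : m < 3
  π : G → Nat
  π_lt : ∀ j ∈ J, π j < 256
  π_mul : ∀ b ∈ J, ∀ c ∈ J, π (b * c) = π b ^^^ π c
  π_zero : ∀ b ∈ J, π b = 0 ↔ InZ z a b
  π_surj : ∀ n < 256, ∃ b ∈ J, π b = n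
  sq : ∀ b ∈ J, b * b = if qB m (π b) then z else 1
  act : ∀ (h : ↥H1) (w : List Nat), (∀ x ∈ w, x ∈ ptsL) → wS w = φ h →
    ∀ b ∈ J, π ((h : G) * b * (h : G)⁻¹) = wM m w (π b)

variable {G : Type u} [Group G] [Finite G] {z a : G} {J H1 : Subgroup G} {F : Type*} [Field F] [Fintype F]

theorem exists_frame (S : Hyp z a J) (hI : Inner z a J H1) (hF : Fintype.card F = 3)
    (ψ : ↥H1 →* Cfsg.PSp 2 F) (hψs : Function.Surjective ψ)
    (hψk : ∀ h : ↥H1, ψ h = 1 ↔ (h : G) ∈ J) : Nonempty (Frame z a J H1) := by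
  classical
  haveI : Fact (Nat.Prime 2) := ⟨Nat.prime_two⟩
  set aH : ↥H1 := ⟨a, hI.ge S.a_mem⟩ with haH
  set zH : ↥H1 := ⟨z, hI.ge S.z_mem⟩ with hzH
  have hca : ∀ h : ↥H1, Commute h aH := fun h => Subtype.ext (mem_cz.1 (hI.le h.2).2)
  have hcz : ∀ h : ↥H1, Commute h zH := fun h => Subtype.ext (mem_cz.1 (hI.le h.2).1)
  set A := Subgroup.zpowers aH with hA
  haveI : A.Normal := ⟨fun n hn k => by
    obtain ⟨i, rfl⟩ := Subgroup.mem_zpowers_iff.1 hn
    rw [((hca k).zpow_right i).eq, mul_inv_cancel_right]; exact hn⟩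
  have haa : aH * aH = 1 := Subtype.ext S.aa
  have hA2 : ∀ x ∈ A, x = 1 ∨ x = aH := fun x hx => by
    obtain ⟨k, rfl⟩ := Subgroup.mem_zpowers_iff.1 hx
    rcases Int.even_or_odd k with ⟨t, rfl⟩ | ⟨t, rfl⟩
    · left; rw [← two_mul, zpow_mul, zpow_two, haa, one_zpow]
    · right; rw [zpow_add, zpow_mul, zpow_two, haa, one_zpow, one_mul, zpow_one]
  set q := QuotientGroup.mk' A with hq
  have hqe : ∀ b c : ↥H1, q b = q c → (c : G) = b ∨ (c : G) = b * a := fun b c h => by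
    rcases hA2 _ (QuotientGroup.eq.1 h) with e | e
    · exact Or.inl (congrArg Subtype.val (inv_mul_eq_one.1 e).symm)
    · exact Or.inr (congrArg Subtype.val (inv_mul_eq_iff_eq_mul.1 e))
  set zQ := q zH with hzQ
  have hzcen : ∀ x : ↥H1 ⧸ A, Commute x zQ := fun x => by
    obtain ⟨k, rfl⟩ := QuotientGroup.mk'_surjective A x
    exact (hcz k).map q
  have hzne : zQ ≠ 1 := fun h => by
    rcases hqe zH 1 (h.trans (map_one q).symm) with e | e
    · exact S.z_ne e.symm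
    · exact S.za_ne e.symm
  have hzord : orderOf zQ = 2 := orderOf_eq_prime_iff.2
    ⟨by rw [pow_two, hzQ, ← map_mul, show zH * zH = 1 from Subtype.ext S.zz, map_one], hzne⟩
  set JQ := (J.subgroupOf H1).map q with hJQ
  set J₀ := JQ.subgroupOf (⊤ : Subgroup (↥H1 ⧸ A)) with hJ₀
  have hJn : (J.subgroupOf H1).Normal :=
    ⟨fun n hn k => S.norm k (hI.le k.2).1 n hn⟩
  haveI hJQn : JQ.Normal := Subgroup.Normal.map hJn q (QuotientGroup.mk'_surjective A)
  haveI : J₀.Normal := hJQn.subgroupOf _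
  have hJmem : ∀ b : ↥H1, q b ∈ JQ ↔ (b : G) ∈ J := fun b => by
    refine ⟨?_, fun h => ⟨b, h, rfl⟩⟩
    rintro ⟨c, hc, e⟩
    rcases hqe c b e with e' | e' <;> rw [e']
    · exact hc
    · exact mul_mem hc S.a_mem
  -- the map onto PSp4(3)
  let ψQ : ↥H1 ⧸ A →* Cfsg.PSp 2 F := QuotientGroup.lift A ψ fun x hx => by
    rcases hA2 x hx with rfl | rfl
    · exact map_one ψ
    · exact (hψk aH).2 S.a_mem
  have hψQk : ∀ x, ψQ x = 1 ↔ x ∈ JQ := fun x => by
    obtain ⟨k, rfl⟩ := QuotientGroup.mk'_surjective A x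
    rw [hJmem]
    exact hψk k
  let f : ↥(⊤ : Subgroup (↥H1 ⧸ A)) →* Cfsg.PSp 2 F := ψQ.comp (Subgroup.subtype _)
  have hfs : Function.Surjective f := fun x => by
    obtain ⟨k, rfl⟩ := hψs x
    exact ⟨⟨q k, Subgroup.mem_top _⟩, rfl⟩
  have hfk : J₀ = f.ker := Subgroup.ext fun x => (hψQk _).symm
  let e₀ : (↥(⊤ : Subgroup (↥H1 ⧸ A)) ⧸ J₀) ≃* Cfsg.PSp 2 F :=
    (QuotientGroup.quotientMulEquivOfEq hfk).trans (QuotientGroup.quotientKerEquivOfSurjective f hfs)
  -- the extraspecial group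
  have hJ₀c : Nat.card ↥J₀ = 2 ^ 9 := by
    rw [hJ₀, Nat.card_congr (Subgroup.subgroupOfEquivOfLe le_top).toEquiv, hJQ, ← Subgroup.relIndex_ker,
      hq, QuotientGroup.ker_mk']
    have hle : A ≤ J.subgroupOf H1 := Subgroup.zpowers_le.2 S.a_mem
    have h1 := (A.subgroupOf (J.subgroupOf H1)).card_mul_index
    rw [Nat.card_congr (Subgroup.subgroupOfEquivOfLe hle).toEquiv, hA, Nat.card_zpowers,
      Nat.card_congr (Subgroup.subgroupOfEquivOfLe hI.ge).toEquiv, S.card,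
      show orderOf aH = 2 from (Subgroup.orderOf_mk a _).trans
        (orderOf_eq_prime_iff.2 ⟨by rw [pow_two, S.aa], S.a_ne⟩)] at h1
    rw [hA]
    show ((Subgroup.zpowers aH).subgroupOf (J.subgroupOf H1)).index = 2 ^ 9
    omega
  have lift : ∀ x : ↥J₀, ∃ b : ↥H1, (b : G) ∈ J ∧ q b = (x : ↥(⊤ : Subgroup (↥H1 ⧸ A))).1 := by
    rintro ⟨x, b, hb, e⟩
    exact ⟨b, hb, e⟩
  set zJ : ↥J₀ := ⟨⟨zQ, Subgroup.mem_top _⟩, (hJmem zH).2 S.z_mem⟩ with hzJ
  have hcomm : ∀ x y : ↥J₀, ⁅x, y⁆ = 1 ∨ ⁅x, y⁆ = zJ := fun x y => by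
    obtain ⟨b, hb, eb⟩ := lift x
    obtain ⟨c, hc, ec⟩ := lift y
    have h : ((⁅x, y⁆ : ↥J₀) : ↥(⊤ : Subgroup (↥H1 ⧸ A))).1 = q (b * c * b⁻¹ * c⁻¹) := by
      simp only [commutatorElement_def, Subgroup.coe_mul, Subgroup.coe_inv, map_mul, map_inv, eb, ec]
    rcases S.comJ hb hc with e | e
    · refine Or.inl (Subtype.ext (Subtype.ext ?_))
      rw [h, show b * c * b⁻¹ * c⁻¹ = 1 from Subtype.ext e, map_one]; rfl
    · refine Or.inr (Subtype.ext (Subtype.ext ?_))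
      rw [h, show b * c * b⁻¹ * c⁻¹ = zH from Subtype.ext e]
  have hsq : ∀ x : ↥J₀, x ^ 2 = 1 ∨ x ^ 2 = zJ := fun x => by
    obtain ⟨b, hb, eb⟩ := lift x
    rcases S.sq _ hb with e | e
    · refine Or.inl (Subtype.ext (Subtype.ext ?_))
      rw [pow_two, Subgroup.coe_mul, Subgroup.coe_mul, ← eb, ← map_mul,
        show b * b = 1 from Subtype.ext e, map_one]
      rfl
    · refine Or.inr (Subtype.ext (Subtype.ext ?_))
      rw [pow_two, Subgroup.coe_mul, Subgroup.coe_mul, ← eb, ← map_mul,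
        show b * b = zH from Subtype.ext e]
  have hzcen' : zJ ∈ Subgroup.center ↥J₀ :=
    Subgroup.mem_center_iff.2 fun x => Subtype.ext (Subtype.ext (hzcen _).eq)
  have hcen : ∀ x ∈ Subgroup.center ↥J₀, x = 1 ∨ x = zJ := by
    intro x hx
    obtain ⟨b, hb, eb⟩ := lift x
    have hb' : ∀ j ∈ J, (b : G) * j = j * b := fun j hj => by
      have hy : q ⟨j, hI.ge hj⟩ ∈ JQ := (hJmem _).2 hj
      have h := congrArg (fun w : ↥J₀ => w.1.1)
        (Subgroup.mem_center_iff.1 hx ⟨⟨q ⟨j, hI.ge hj⟩, Subgroup.mem_top _⟩, hy⟩)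
      simp only [Subgroup.coe_mul, ← eb, ← map_mul] at h
      rcases hqe _ _ h with e | e
      · exact e
      · simp only [Subgroup.coe_mul] at e
        exfalso
        rcases S.comJ hb hj with h' | h'
        · rw [mul_inv_eq_one, mul_inv_eq_iff_eq_mul] at h'
          exact S.a_ne (left_eq_mul.1 (h'.symm.trans (by rw [h'] at e ⊢; exact e)))
        · refine S.az ?_
          have h2 : (b : G) * j = z * (j * b) := by rw [← h']; group
          rw [e, ← S.z_cent _ (mul_mem hj hb)] at h2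
          exact mul_left_cancel h2
    have inz : ∀ w : ↥H1, InZ z a (w : G) → q w = 1 ∨ q w = zQ := fun w hw => by
      rcases hw with e | e | e | e
      · exact Or.inl (by rw [show w = 1 from Subtype.ext e, map_one])
      · exact Or.inr (by rw [show w = zH from Subtype.ext e])
      · exact Or.inl ((QuotientGroup.eq_one_iff w).2
          (by rw [show w = aH from Subtype.ext e]; exact Subgroup.mem_zpowers aH))
      · refine Or.inr ?_
        rw [show w = zH * aH from Subtype.ext e, map_mul,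
          show q aH = 1 from (QuotientGroup.eq_one_iff aH).2 (Subgroup.mem_zpowers aH), mul_one]
    rcases inz b (S.cen _ hb hb') with e | e
    · exact Or.inl (Subtype.ext (Subtype.ext (eb ▸ e)))
    · exact Or.inr (Subtype.ext (Subtype.ext (eb ▸ e)))
  have hP : IsPGroup 2 ↥J₀ := IsPGroup.of_card hJ₀c
  have hes : Cfsg.IsExtraspecial 2 ↥J₀ := by
    have hc2 : ∀ x ∈ Subgroup.center ↥J₀, x ∈ commutator ↥J₀ := by
      obtain ⟨x, hx, y, hy, hxy⟩ := S.nonab
      set xJ : ↥J₀ := ⟨⟨q ⟨x, hI.ge hx⟩, Subgroup.mem_top _⟩, (hJmem ⟨x, hI.ge hx⟩).2 hx⟩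
      set yJ : ↥J₀ := ⟨⟨q ⟨y, hI.ge hy⟩, Subgroup.mem_top _⟩, (hJmem ⟨y, hI.ge hy⟩).2 hy⟩
      have hz : ⁅xJ, yJ⁆ = zJ := by
        refine Subtype.ext (Subtype.ext ?_)
        simp only [commutatorElement_def, Subgroup.coe_mul, Subgroup.coe_inv, xJ, yJ, ← map_mul, ← map_inv]
        refine congrArg q (Subtype.ext ?_)
        show x * y * x⁻¹ * y⁻¹ = z
        rw [hxy, S.z_cent y hy, mul_inv_cancel_right]
      intro w hw
      rcases hcen w hw with rfl | rfl
      · exact one_mem _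
      · exact hz ▸ Subgroup.commutator_mem_commutator (Subgroup.mem_top xJ) (Subgroup.mem_top yJ)
    have hc1 : commutator ↥J₀ ≤ Subgroup.center ↥J₀ := by
      rw [commutator_def, Subgroup.commutator_le]
      intro x _ y _
      rcases hcomm x y with e | e <;> rw [e]
      · exact one_mem _
      · exact hzcen'
    have hC : commutator ↥J₀ = Subgroup.center ↥J₀ := le_antisymm hc1 hc2
    refine ⟨⟨hP, le_antisymm (PGroups.frattini_le_of_pow_commutator (p := 2) _ (fun x => ?_) hc1)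
      (hC ▸ PGroups.commutator_le_frattini hP), hC⟩, ?_⟩
    · rcases hsq x with e | e <;> rw [e]
      · exact one_mem _
      · exact hzcen'
    · have h1 : (Subgroup.center ↥J₀ : Set ↥J₀) = {1, zJ} := by
        ext x
        refine ⟨fun hx => hcen x hx, ?_⟩
        rintro (rfl | rfl)
        exacts [one_mem _, hzcen']
      rw [← SetLike.coe_sort_coe, Nat.card_coe_set_eq, h1, Set.ncard_pair]
      exact fun h => hzne (congrArg (fun w : ↥J₀ => w.1.1) h).symm
  have hmap : ∀ x : ↥H1 ⧸ A, x ∈ J₀.map (Subgroup.subtype _) ↔ x ∈ JQ := fun x => by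
    rw [hJ₀, Subgroup.subgroupOf_map_subtype]; simp
  obtain ⟨C, hCH, hCJ⟩ := exists_ctx' zQ hzord hF ⊤
    (fun x _ => mem_cen.2 (hzcen x).eq) (fun _ _ => Subgroup.mem_top _)
    (fun _ _ _ _ => Subgroup.mem_top _)
    (by rw [Subgroup.relIndex_eq_one.2 le_top]; norm_num) (Subgroup.mem_top _) J₀ hes hJ₀c
    (fun x _ j hj => (hmap _).2 (hJQn.conj_mem j ((hmap j).1 hj) x))
    (fun x _ hx => by
      obtain ⟨k, rfl⟩ := QuotientGroup.mk'_surjective A x
      refine (hmap _).2 ((hJmem k).2 (S.mem_of_stab (hI.le k.2) fun j hj => ?_))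
      have h := hx (q ⟨j, hI.ge hj⟩) ((hmap _).2 ((hJmem _).2 hj))
      rw [commute_iff_eq, ← map_mul, ← map_mul] at h
      rcases hqe _ _ h with e | e <;> simp only [Subgroup.coe_mul] at e
      · exact ⟨1, Or.inl rfl, by rw [mul_one, ← e, mul_inv_cancel_right]⟩
      · refine ⟨a, Or.inr (Or.inr (Or.inl rfl)), ?_⟩
        have hka : (k : G) * a = a * k := mem_cz.1 (hI.le k.2).2
        have hja := S.a_cent j hj
        calc (k : G) * j * (k : G)⁻¹ = k * j * a * a * (k : G)⁻¹ := by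
              rw [mul_assoc _ a a, S.aa, mul_one]
          _ = j * k * a * (k : G)⁻¹ := by rw [← e]
          _ = j * a := by rw [mul_assoc j, hka]; group)
    e₀
  have hCJ' : ∀ x, x ∈ C.J ↔ x ∈ JQ := fun x => by rw [hCJ]; exact hmap x
  have hqJ : ∀ b (hb : b ∈ J), q ⟨b, hI.ge hb⟩ ∈ C.J := fun b hb => (hCJ' _).2 ((hJmem _).2 hb)
  let φ : ↥H1 →* SU4 := C.φ.comp (q.codRestrict C.H0 fun x => by rw [hCH]; exact Subgroup.mem_top _)
  let π : G → Nat := fun g => if hg : g ∈ H1 then C.π (q ⟨g, hg⟩) else 0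
  have hπ : ∀ b (hb : b ∈ J), π b = C.π (q ⟨b, hI.ge hb⟩) := fun b hb => dif_pos (hI.ge hb)
  refine ⟨⟨hI, φ, ?_, ?_, C.m, C.hm, π, ?_, ?_, ?_, ?_, ?_, ?_⟩⟩
  · intro A'
    obtain ⟨⟨x, hx⟩, rfl⟩ := C.φ_surj A'
    obtain ⟨k, rfl⟩ := QuotientGroup.mk'_surjective A x
    exact ⟨k, rfl⟩
  · intro h
    exact ((C.φ_ker _).trans (hCJ' _)).trans (hJmem h)
  · intro j hj
    rw [hπ j hj]; exact C.π_lt _ (hqJ j hj)
  · intro b hb c hc
    rw [hπ _ (mul_mem hb hc), hπ b hb, hπ c hc, ← C.π_mul _ (hqJ b hb) _ (hqJ c hc), ← map_mul]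
    rfl
  · intro b hb
    rw [hπ b hb, C.π_eq_zero _ (hqJ b hb)]
    constructor
    · rintro (e | e)
      · rcases hqe ⟨b, hI.ge hb⟩ 1 (e.trans (map_one q).symm) with e' | e'
        · exact Or.inl e'.symm
        · refine Or.inr (Or.inr (Or.inl ?_))
          rw [show b = a⁻¹ from eq_inv_of_mul_eq_one_left e'.symm, S.ainv]
      · rcases hqe zH ⟨b, hI.ge hb⟩ e.symm with e' | e'
        · exact Or.inr (Or.inl e')
        · exact Or.inr (Or.inr (Or.inr e'))
    · rintro (rfl | rfl | rfl | rfl)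
      · exact Or.inl (map_one q)
      · exact Or.inr rfl
      · exact Or.inl ((QuotientGroup.eq_one_iff aH).2 (Subgroup.mem_zpowers aH))
      · refine Or.inr ?_
        rw [show (⟨z * a, hI.ge hb⟩ : ↥H1) = zH * aH from rfl, map_mul,
          show q aH = 1 from (QuotientGroup.eq_one_iff aH).2 (Subgroup.mem_zpowers aH), mul_one]
  · intro n hn
    obtain ⟨x, hx, e⟩ := C.π_surj n hn
    obtain ⟨k, rfl⟩ := QuotientGroup.mk'_surjective A x
    have hk := (hJmem k).1 ((hCJ' _).1 hx)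
    exact ⟨k, hk, by rw [hπ _ hk]; exact e⟩
  · intro b hb
    have h := C.sq _ (hqJ b hb)
    rw [← hπ b hb, ← map_mul] at h
    rcases S.sq b hb with e | e <;> cases hqB : qB C.m (π b) <;> simp only [hqB] at h <;> simp [e]
    · exfalso
      rw [show (⟨b, hI.ge hb⟩ : ↥H1) * ⟨b, hI.ge hb⟩ = 1 from Subtype.ext e, map_one] at h
      exact hzne h.symm
    · exfalso
      rw [show (⟨b, hI.ge hb⟩ : ↥H1) * ⟨b, hI.ge hb⟩ = zH from Subtype.ext e] at h
      exact hzne (by simpa using h)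
  · intro h w hw hwS b hb
    have hb' := hqJ b hb
    have hmemJ : (h : G) * b * (h : G)⁻¹ ∈ J := S.norm h (hI.le h.2).1 b hb
    rw [hπ _ hmemJ, hπ b hb, ← C.act _ w hw hwS _ hb']
    rfl

end Cfsg.Agent.Lib.Fi22Recog95.Mod
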