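import Cfsg.Agent.Lib.Fi22Recog95.Mod.Transfer
import Cfsg.Agent.Lib.Fi22Recog95.Mod.ChecksMore

/-!
Recognition of Fi22, the module: inner elements on the natural module.

Owner: helper7 (for helper95).
-/

set_option autoImplicit false
set_option linter.style.haveILetI false
set_option maxRecDepth 20000

namespace Cfsg.Agent.Lib.Fi22Recog95.Mod

open Cfsg.Agent.Lib.U62Cent47 Cfsg.Agent.Lib.U62Recog47

universe u

variable {G : Type u} [Group G] [Finite G] {z a : G} {J H1 : Subgroup G}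

namespace Frame

variable (T : Frame z a J H1) (S : Hyp z a J) (hm : T.m = 2)

include T S hm

theorem natKind {h : G} (hh : h ∈ H1) (h2 : Inv2 J h) :
    (∃ x ∈ ptsL, T.φ ⟨h, hh⟩ = wS [x] ∧ Nat.card (CV z a J h) = 256) ∨
      (∃ w ∈ pairL, T.φ ⟨h, hh⟩ = wS w ∧ Nat.card (CV z a J h) = 64) := by
  obtain ⟨w, hw, e, ha⟩ := T.exists_invW hh h2
  have hc := T.card_CV S (T.h1_cz hh) ha
  rw [hm] at hc
  rcases List.mem_append.1 hw with hw' | hw'
  · obtain ⟨x, hx, rfl⟩ := List.mem_map.1 hw'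
    refine Or.inl ⟨x, hx, e, ?_⟩
    rw [hc, beq_iff_eq.1 (List.all_eq_true.1 natSingle_ok x hx)]
  · refine Or.inr ⟨w, hw', e, ?_⟩
    rw [hc, beq_iff_eq.1 (List.all_eq_true.1 natPairSize_ok w hw')]

theorem nat_single {h : G} (hh : h ∈ H1) (h2 : Inv2 J h) (hc : Nat.card (CV z a J h) = 256) :
    ∃ x ∈ ptsL, T.φ ⟨h, hh⟩ = wS [x] := by
  rcases T.natKind S hm hh h2 with ⟨x, hx, e, -⟩ | ⟨w, -, -, e'⟩
  · exact ⟨x, hx, e⟩
  · omega

theorem nat_pair {h : G} (hh : h ∈ H1) (h2 : Inv2 J h) (hc : Nat.card (CV z a J h) = 64) :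
    ∃ w ∈ pairL, T.φ ⟨h, hh⟩ = wS w := by
  rcases T.natKind S hm hh h2 with ⟨x, -, -, e'⟩ | ⟨w, hw, e, -⟩
  · omega
  · exact ⟨w, hw, e⟩

/-- the normal form knows the size -/
theorem nat_form {h : G} (hh : h ∈ H1) (h2 : Inv2 J h) :
    ∃ k, ∃ hk : k ∈ H1, ∃ w ∈ invL, T.φ ⟨k * h * k⁻¹, T.h1_conj hk hh⟩ = wS w ∧
      Acts T (k * h * k⁻¹) (wM 2 w) ∧
        Nat.card (CV z a J h) = (if w.length = 1 then 256 else 64) := by
  obtain ⟨k, hk, w, hw, e⟩ := T.exists_form S hh h2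
  have ha := T.acts_word (T.h1_conj hk hh) (invL_pts hw) e.symm
  rw [hm] at ha
  refine ⟨k, hk, w, hw, e, ha, ?_⟩
  rw [← card_CV_conj S (T.h1_cz hk), T.card_CV S (T.h1_cz (T.h1_conj hk hh)) ha,
    beq_iff_eq.1 (List.all_eq_true.1 natSize_ok w hw)]
  cases e1 : w.length == 1 <;> simp_all

/-- centralising elements without fixed points -/
theorem nat_fix {h : G} (hh : h ∈ H1) (h2 : Inv2 J h) :
    ∃ n ∈ H1, Odd (orderOf n) ∧ CV z a J n ⊆ {w | InZ z a w} ∧ CommMod J n h ∧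
      (Nat.card (CV z a J h) = 64 → ∀ g ∈ H1, Inv2 J g → Nat.card (CV z a J g) = 64 →
        CV z a J h ⊆ CV z a J g → CommMod J n g → g * h ∈ J) := by
  obtain ⟨k, hk, w, hw, ew, haw, hcard⟩ := T.nat_form S hm hh h2
  have hkc := T.h1_cz hk
  obtain ⟨v, hv, hvw⟩ := List.any_eq_true.1 (List.all_eq_true.1 natN_cover w hw)
  have hvw' : v.1 = w := eq_of_beq hvw
  have hok := List.all_eq_true.1 natN_ok v hv
  simp only [Bool.and_eq_true, List.all_eq_true, List.contains_iff_mem, List.mem_range,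
    Bool.or_eq_true, Bool.not_eq_true', beq_eq_false_iff_ne, beq_iff_eq, hvw'] at hok
  obtain ⟨⟨⟨hpts, h3⟩, hcm⟩, hfree⟩ := hok
  have e3 : wS v.2 ^ 3 = 1 := by
    rw [pow_succ, pow_two, ← wS_append, ← wS_append, wS_of_eqW h3, wS_nil]
  have hcm' : wS w * wS v.2 = wS v.2 * wS w := by rw [← wS_append, ← wS_append, wS_of_eqW hcm]
  obtain ⟨n, hn, -, en, hodd⟩ := T.exists_odd S hpts e3 (by decide) (dvd_refl 1024) (by norm_num)
  have hn' : k⁻¹ * n * k ∈ H1 := mul_mem (mul_mem (inv_mem hk) hn) hk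
  have eback : ∀ x : G, k * (k⁻¹ * x * k) * k⁻¹ = x := fun x => by group
  have han := T.acts_word hn hpts en.symm
  rw [hm] at han
  refine ⟨k⁻¹ * n * k, hn', ?_, ?_, ?_, ?_⟩
  · rw [← MulAut.conj_inv_apply, MulEquiv.orderOf_eq]; exact hodd
  · intro j hj
    have h1 : k * j * k⁻¹ ∈ CV z a J n := by rw [← eback n]; exact (mem_CV_conj S hkc).2 hj
    exact (inZ_conj_iff S hkc).1
      (T.CV_le_Z S (T.h1_cz hn) han (fun i hi e => (hfree i hi).resolve_left (not_not.2 e)) h1)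
  · rw [← commMod_conj S hkc, eback, T.commMod_φ hn (T.h1_conj hk hh), en, ew, hcm']
  · intro h64 g hg hg2 hg64 hsub hgc
    have hl : ¬ w.length = 1 := fun hl => by rw [if_pos hl] at hcard; omega
    obtain ⟨x, hx, ex⟩ := T.nat_pair S hm (T.h1_conj hk hg) ((inv2_conj S hkc).2 hg2)
      (by rw [card_CV_conj S hkc, hg64])
    have hax := T.acts_word (T.h1_conj hk hg) (pairL_pts hx) ex.symm
    rw [hm] at hax
    have hu := List.all_eq_true.1 natUnique_ok v hv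
    simp only [hvw', Bool.or_eq_true, beq_iff_eq, List.all_eq_true, Bool.not_eq_true', List.mem_range,
      beq_eq_false_iff_ne] at hu
    have hx' := (hu.resolve_left hl) x hx
    rw [← mem_J_conj S hkc, show k * (g * h) * k⁻¹ = k * g * k⁻¹ * (k * h * k⁻¹) by group]
    refine T.φ_eq_one_of_mul (T.h1_conj hk hg) (T.h1_conj hk hh) ?_
    rw [ex, ew]
    rcases hx' with (h' | h') | h'
    · exfalso
      rw [Bool.eq_false_iff, ne_eq, List.all_eq_true] at h'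
      refine h' fun i hi => ?_
      rw [List.mem_range] at hi
      simp only [Bool.or_eq_true, Bool.not_eq_true', beq_eq_false_iff_ne, beq_iff_eq]
      refine or_iff_not_imp_left.2 fun he => ?_
      obtain ⟨j, hj, rfl⟩ := T.π_surj i hi
      have h1 : j ∈ CV z a J (k * h * k⁻¹) :=
        (T.mem_CV S (T.h1_cz (T.h1_conj hk hh)) haw).2 ⟨hj, not_not.1 he⟩
      rw [CV_conj S hkc] at h1
      obtain ⟨j', hj', rfl⟩ := h1
      exact ((T.mem_CV S (T.h1_cz (T.h1_conj hk hg)) hax).1 ((mem_CV_conj S hkc).2 (hsub hj'))).2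
    · refine absurd ?_ (Bool.eq_false_iff.1 h')
      have hc' := (commMod_conj S hkc).2 hgc
      rw [eback, T.commMod_φ hn (T.h1_conj hk hg), en, ex] at hc'
      refine eqW_of_wS (fun y hy => (List.mem_append.1 hy).elim (pairL_pts hx y) (hpts y))
        (fun y hy => (List.mem_append.1 hy).elim (hpts y) (pairL_pts hx y)) ?_
      rw [wS_append, wS_append, hc']
    · rw [wS_of_eqW h', invL_sq hw]

theorem nat_r_elem {h : G} (hh : h ∈ H1) (h2 : Inv2 J h) (hc : Nat.card (CV z a J h) = 64) :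
    (∀ j ∈ CV z a J h, j * j = 1) ∧ CV z a J h ⊆ IV z a J h := by
  obtain ⟨k, hk, w, hw, -, haw, hcard⟩ := T.nat_form S hm hh h2
  have hkc := T.h1_cz hk
  have hl : (w.length == 1) = false := by
    by_contra e
    rw [Bool.not_eq_false, beq_iff_eq] at e
    rw [if_pos e] at hcard; omega
  have hok := List.all_eq_true.1 natElem_ok w hw
  simp only [hl, Bool.false_or, List.all_eq_true, List.mem_range, Bool.or_eq_true, Bool.not_eq_true',
    beq_eq_false_iff_ne, beq_iff_eq, Bool.and_eq_true, List.any_eq_true] at hok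
  have key : ∀ j ∈ CV z a J h, qB 2 (T.π (k * j * k⁻¹)) = false ∧
      k * j * k⁻¹ ∈ IV z a J (k * h * k⁻¹) := fun j hj => by
    obtain ⟨hjJ, hf⟩ := (T.mem_CV S (T.h1_cz (T.h1_conj hk hh)) haw).1 ((mem_CV_conj S hkc).2 hj)
    obtain ⟨hq, i, hi, e⟩ := (hok _ (T.π_lt _ hjJ)).resolve_left (not_not.2 hf)
    exact ⟨hq, (T.mem_IV S (T.h1_cz (T.h1_conj hk hh)) haw).2 ⟨hjJ, i, hi, e⟩⟩
  refine ⟨fun j hj => ?_, fun j hj => (mem_IV_conj S hkc).1 (key j hj).2⟩
  have h1 := T.sq _ ((mem_J_conj S hkc).2 hj.1)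
  rw [hm, (key j hj).1, show k * j * k⁻¹ * (k * j * k⁻¹) = k * (j * j) * k⁻¹ by group] at h1
  simpa using h1

theorem nat_t_rigid {h g : G} (hh : h ∈ H1) (h2 : Inv2 J h) (hc : Nat.card (CV z a J h) = 256)
    (hg : g ∈ H1) (g2 : Inv2 J g)
    (hb : 128 ≤ Nat.card (CV z a J h ∩ CV z a J g : Set G)) : g * h ∈ J := by
  obtain ⟨x, hx, ex⟩ := T.nat_single S hm hh h2 hc
  rcases T.natKind S hm hg g2 with ⟨y, hy, ey, -⟩ | ⟨w, -, -, hc'⟩
  · have hax := T.acts_word hh (w := [x]) (by simpa using hx) ex.symm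
    have hay := T.acts_word hg (w := [y]) (by simpa using hy) ey.symm
    rw [hm] at hax hay
    rw [T.card_CV2 S (T.h1_cz hh) (T.h1_cz hg) hax hay] at hb
    have h := List.all_eq_true.1 (List.all_eq_true.1 natRigid_ok x hx) y hy
    simp only [Bool.or_eq_true, beq_iff_eq, decide_eq_true_eq] at h
    rcases h with rfl | h
    · refine T.φ_eq_one_of_mul hg hh ?_
      rw [ex, ey, wS_single, tC_sq hx]
    · omega
  · have : Nat.card (CV z a J h ∩ CV z a J g : Set G) ≤ Nat.card (CV z a J g) :=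
      Nat.card_mono (Set.toFinite _) Set.inter_subset_right
    omega

theorem nat_t_prod {h k l : G} (hh : h ∈ H1) (hk : k ∈ H1) (hl : l ∈ H1) (h2 : Inv2 J h)
    (k2 : Inv2 J k) (l2 : Inv2 J l) (hc : Nat.card (CV z a J h) = 256)
    (kc : Nat.card (CV z a J k) = 256) (lc : Nat.card (CV z a J l) = 256) (hcm : CommMod J h k) :
    h * k * l ∉ J := fun hJ => by
  obtain ⟨x, hx, ex⟩ := T.nat_single S hm hh h2 hc
  obtain ⟨y, hy, ey⟩ := T.nat_single S hm hk k2 kc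
  obtain ⟨w, hw, ew⟩ := T.nat_single S hm hl l2 lc
  have h1 := (T.φ_ker (⟨h, hh⟩ * ⟨k, hk⟩ * ⟨l, hl⟩)).2 hJ
  rw [map_mul, map_mul, ex, ey, ew, ← wS_append, wS_single w, mul_eq_one_iff_eq_inv,
    inv_eq_of_mul_eq_one_right (tC_sq hw), ← wS_single w] at h1
  have h2' := (T.commMod_φ hh hk).1 hcm
  rw [ex, ey, ← wS_append, ← wS_append] at h2'
  have h := List.all_eq_true.1 (List.all_eq_true.1 natProd_ok x hx) y hy
  have e1 : eqW [x, y] [y, x] = true :=
    eqW_of_wS (by simp [hx, hy]) (by simp [hx, hy]) (by simpa using h2')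
  simp only [e1, Bool.not_true, Bool.false_or, List.all_eq_true, Bool.not_eq_true'] at h
  have e2 : eqW [x, y] [w] = true := eqW_of_wS (by simp [hx, hy]) (by simp [hw]) (by simpa using h1)
  exact absurd e2 (by simp [h w hw])

omit hm in
theorem nat_five_aux {n : G} (hn : n ∈ H1) (en : T.φ ⟨n, hn⟩ = wS fiveN) {h : G} (hh : h ∈ H1)
    {x : Nat} (hx : x ∈ ptsL) (ex : T.φ ⟨h, hh⟩ = wS [x]) (i : ℕ) :
    ∃ hi : n ^ i * h * (n ^ i)⁻¹ ∈ H1, T.φ ⟨n ^ i * h * (n ^ i)⁻¹, hi⟩ = wS (fiveC i x) := by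
  have hN : ∀ y ∈ fiveP i, y ∈ ptsL := fun y hy => by
    obtain ⟨l, hl, hy'⟩ := List.mem_flatten.1 hy
    rw [List.eq_of_mem_replicate hl] at hy'
    have hok : fiveN.all (fun a => ptsL.contains a) = true := by decide +kernel
    simpa using List.all_eq_true.1 hok y hy'
  refine ⟨T.h1_conj (pow_mem hn i) hh, ?_⟩
  rw [T.φ_conj (pow_mem hn i) hh, ex, fiveC, wS_append, wS_append, wS_reverse hN, fiveP, wS_rep, ← en,
    ← map_pow]
  rfl

theorem nat_five : ∃ n h, GoodFive z a J H1 n h ∧ ∀ h', GoodFive z a J H1 n h' →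
    ∃ r ∈ H1, ∃ k i : ℕ, r * n * r⁻¹ * (n ^ k)⁻¹ ∈ J ∧
      r * h' * r⁻¹ * (n ^ i * h * (n ^ i)⁻¹)⁻¹ ∈ J := by
  have hok := fiveN_ok
  simp only [Bool.and_eq_true, List.all_eq_true, List.mem_range, Bool.or_eq_true, beq_iff_eq,
    Bool.not_eq_true', beq_eq_false_iff_ne, List.contains_iff_mem] at hok
  obtain ⟨⟨⟨⟨⟨hpts, h5⟩, hfree⟩, hne⟩, h6⟩, hgood⟩ := hok
  have e5 : wS fiveN ^ 5 = 1 := by rw [← wS_rep]; exact (wS_of_eqW h5).trans wS_nil
  obtain ⟨n, hn, hn5, en, -⟩ :=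
    T.exists_odd S hpts e5 (by decide) (e := 4096) (by norm_num) (by norm_num)
  obtain ⟨h, hh, eh, -⟩ := T.exists_lift (w := [6]) (by simpa using h6)
  have hpl : ∀ i x, x ∈ ptsL → ∀ y ∈ fiveC i x, y ∈ ptsL := by
    intro i x hx y hy
    have : y ∈ fiveP i ∨ y = x := by
      simp only [fiveC, List.mem_append, List.mem_singleton, List.mem_reverse] at hy; tauto
    rcases this with hy' | rfl
    · obtain ⟨l, hl, hy''⟩ := List.mem_flatten.1 hy'
      rw [List.eq_of_mem_replicate hl] at hy''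
      exact hpts y hy''
    · exact hx
  have hpow : ∀ i, n ^ i = n ^ (i % 5) := fun i => by
    conv_lhs => rw [← Nat.mod_add_div i 5, pow_add, pow_mul, hn5, one_pow, mul_one]
  have hfr : CV z a J n ⊆ {w | InZ z a w} := by
    have ha := T.acts_word hn hpts en.symm
    rw [hm] at ha
    exact T.CV_le_Z S (T.h1_cz hn) ha fun i hi e => (hfree i hi).resolve_left (not_not.2 e)
  have mk : ∀ x ∈ ptsL, fiveGood x = true → ∀ h (hh : h ∈ H1), T.φ ⟨h, hh⟩ = wS [x] →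
      GoodFive z a J H1 n h := by
    intro x hx hg h hh ex
    simp only [fiveGood, Bool.and_eq_true, List.all_eq_true, List.mem_range] at hg
    have hsq : wS [x] * wS [x] = 1 := by rw [wS_single, tC_sq hx]
    have hinv : Inv2 J h := (T.inv2_iff hh).2 ⟨by rw [ex, hsq], fun e => by
      rw [ex] at e
      have := eqW_of_wS (w := []) (by simpa using hx) (by simp) (e.trans wS_nil.symm)
      have hok' : ptsL.all (fun x => !(eqW [x] [])) = true := by decide +kernel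
      have h' := List.all_eq_true.1 hok' x hx
      simp [this] at h'⟩
    refine ⟨hn, hn5, fun e => ?_, hfr, hh, hinv, ?_, fun i => ?_, ?_⟩
    · have : T.φ ⟨n, hn⟩ = 1 := (T.φ_ker _).2 (by show n ∈ J; rw [e]; exact one_mem _)
      rw [en, ← wS_nil] at this
      exact absurd (eqW_of_wS hpts (by simp) this) (by simp [hne])
    · rcases T.natKind S hm hh hinv with ⟨-, -, -, hc⟩ | ⟨w, hw, ew, -⟩
      · exact hc
      · exfalso
        have he : eqW [x] w = true :=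
          eqW_of_wS (by simpa using hx) (pairL_pts hw) (ex.symm.trans ew)
        have hok' : ptsL.all (fun x => pairL.all fun w => !(eqW [x] w)) = true := by decide +kernel
        have h' := List.all_eq_true.1 (List.all_eq_true.1 hok' x hx) w hw
        simp [he] at h'
    · rw [hpow i]
      obtain ⟨hi, ei⟩ := T.nat_five_aux S hn en hh hx ex (i % 5)
      rw [T.commMod_φ hh hi, ex, ei, ← wS_append, ← wS_append,
        wS_of_eqW (hg.1 _ (Nat.mod_lt _ (by norm_num)))]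
    · obtain ⟨h1, e1⟩ := T.nat_five_aux S hn en hh hx ex 1
      obtain ⟨h2, e2⟩ := T.nat_five_aux S hn en hh hx ex 2
      obtain ⟨h3, e3⟩ := T.nat_five_aux S hn en hh hx ex 3
      obtain ⟨h4, e4⟩ := T.nat_five_aux S hn en hh hx ex 4
      refine (T.φ_ker (⟨h, hh⟩ * ⟨n * h * n⁻¹, T.h1_conj hn hh⟩ * ⟨_, h2⟩ * ⟨_, h3⟩ * ⟨_, h4⟩)).1 ?_
      have e1' : T.φ ⟨n * h * n⁻¹, T.h1_conj hn hh⟩ = wS (fiveC 1 x) := by
        rw [← e1]; simp
      rw [map_mul, map_mul, map_mul, map_mul, ex, e1', e2, e3, e4, ← wS_append, ← wS_append,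
        ← wS_append, ← wS_append, wS_of_eqW hg.2, wS_nil]
  refine ⟨n, h, mk 6 h6 hgood h hh eh, fun h' G' => ?_⟩
  obtain ⟨x, hx, ex⟩ := T.nat_single S hm G'.h_mem G'.h_inv G'.h_card
  have hgx : fiveGood x = true := by
    simp only [fiveGood, Bool.and_eq_true, List.all_eq_true, List.mem_range]
    refine ⟨fun i _ => ?_, ?_⟩
    · obtain ⟨hi, ei⟩ := T.nat_five_aux S hn en G'.h_mem hx ex i
      have hc := (T.commMod_φ G'.h_mem hi).1 (G'.comm i)
      rw [ex, ei, ← wS_append, ← wS_append] at hc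
      refine eqW_of_wS ?_ ?_ hc <;> intro y hy <;> rcases List.mem_append.1 hy with hy' | hy' <;>
        first | exact hpl i x hx y hy' | (rw [List.mem_singleton.1 hy']; exact hx)
    · obtain ⟨h1, e1⟩ := T.nat_five_aux S hn en G'.h_mem hx ex 1
      obtain ⟨h2, e2⟩ := T.nat_five_aux S hn en G'.h_mem hx ex 2
      obtain ⟨h3, e3⟩ := T.nat_five_aux S hn en G'.h_mem hx ex 3
      obtain ⟨h4, e4⟩ := T.nat_five_aux S hn en G'.h_mem hx ex 4
      have hp := (T.φ_ker (⟨h', G'.h_mem⟩ * ⟨n * h' * n⁻¹, T.h1_conj hn G'.h_mem⟩ * ⟨_, h2⟩ *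
        ⟨_, h3⟩ * ⟨_, h4⟩)).2 G'.prod
      have e1' : T.φ ⟨n * h' * n⁻¹, T.h1_conj hn G'.h_mem⟩ = wS (fiveC 1 x) := by
        rw [← e1]; simp
      rw [map_mul, map_mul, map_mul, map_mul, ex, e1', e2, e3, e4, ← wS_append, ← wS_append,
        ← wS_append, ← wS_append] at hp
      refine eqW_of_wS ?_ (by simp) (hp.trans wS_nil.symm)
      intro y hy
      simp only [List.mem_append, List.mem_singleton] at hy
      rcases hy with (((rfl | hy) | hy) | hy) | hy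
      · exact hx
      all_goals exact hpl _ x hx y hy
  obtain ⟨e, he, hex⟩ := List.any_eq_true.1
    ((Bool.or_eq_true _ _).mp (List.all_eq_true.1 fiveL_cover x hx) |>.resolve_left (by simp [hgx]))
  have hex' : e.1 = x := eq_of_beq hex
  have hok := List.all_eq_true.1 fiveL_ok e he
  simp only [Bool.and_eq_true, List.all_eq_true, List.contains_iff_mem, hex'] at hok
  obtain ⟨⟨hr, hrn⟩, hra⟩ := hok
  obtain ⟨r, hr', er, -⟩ := T.exists_lift hr
  refine ⟨r, hr', e.2.2.1, e.2.2.2, ?_, ?_⟩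
  · refine (T.φ_ker (⟨r, hr'⟩ * ⟨n, hn⟩ * ⟨r, hr'⟩⁻¹ * (⟨n, hn⟩ ^ e.2.2.1)⁻¹)).1 ?_
    rw [map_mul, map_mul, map_mul, map_inv, map_inv, map_pow, er, en, ← wS_rep, ← wS_reverse hr,
      ← wS_append, ← wS_append, wS_of_eqW hrn]
    exact mul_inv_cancel _
  · obtain ⟨hi, ei⟩ := T.nat_five_aux S hn en hh h6 eh e.2.2.2
    refine (T.φ_ker (⟨r, hr'⟩ * ⟨h', G'.h_mem⟩ * ⟨r, hr'⟩⁻¹ * ⟨_, hi⟩⁻¹)).1 ?_
    rw [map_mul, map_mul, map_mul, map_inv, map_inv, er, ex, ei, ← wS_reverse hr, ← wS_append,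
      ← wS_append, wS_of_eqW hra, mul_inv_cancel]

theorem nat_t_conj {h k : G} (hh : h ∈ H1) (hk : k ∈ H1) (h2 : Inv2 J h) (k2 : Inv2 J k)
    (hc : Nat.card (CV z a J h) = 256) (kc : Nat.card (CV z a J k) = 256) :
    ∃ g ∈ H1, g * h * g⁻¹ * k ∈ J := by
  obtain ⟨x, hx, ex⟩ := T.nat_single S hm hh h2 hc
  obtain ⟨y, hy, ey⟩ := T.nat_single S hm hk k2 kc
  have key : ∀ a ∈ ptsL, ∃ B : SU4, B * tC 5 * B⁻¹ = tC a := by
    refine pts_induction (P := fun A => ∃ B : SU4, B * tC 5 * B⁻¹ = A) ⟨1, by simp⟩ ?_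
    rintro a - g hg ⟨B, e⟩
    refine ⟨tC g * B, ?_⟩
    rw [← e]
    conv_rhs => enter [2]; rw [← inv_eq_of_mul_eq_one_right (tC_sq (gen_pts g hg))]
    group
  obtain ⟨Bx, eBx⟩ := key x hx
  obtain ⟨By, eBy⟩ := key y hy
  obtain ⟨⟨g, hg⟩, eg⟩ := T.φ_surj (By * Bx⁻¹)
  refine ⟨g, hg, T.φ_eq_one_of_mul (T.h1_conj hg hh) hk ?_⟩
  rw [T.φ_conj hg hh, eg, ex, ey, wS_single, wS_single, ← eBx,
    show By * Bx⁻¹ * (Bx * tC 5 * Bx⁻¹) * (By * Bx⁻¹)⁻¹ = By * tC 5 * By⁻¹ by group, eBy, tC_sq hy]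

end Frame

end Cfsg.Agent.Lib.Fi22Recog95.Mod
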