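import Cfsg.Agent.Lib.Fi22Recog95.Mod.Transfer
import Cfsg.Agent.Lib.Fi22Recog95.Mod.ChecksMore

/-!
Recognition of Fi22, the module: the action of any element of `C(z)`; on the natural module an element
outside `H1` is semilinear.

Owner: helper7 (for helper95).
-/

set_option autoImplicit false
set_option linter.style.haveILetI false
set_option maxRecDepth 20000

namespace Cfsg.Agent.Lib.Fi22Recog95.Mod

open Cfsg.Agent.Lib.U62Cent47 Cfsg.Agent.Lib.U62Recog47 Cfsg.Agent.Lib.G24

universe u

variable {G : Type u} [Group G] {z a : G} {J H1 : Subgroup G}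

namespace Frame

variable (T : Frame z a J H1) (S : Hyp z a J)

include T S

/-- every element of `C(z)` acts on the codes -/
theorem exists_map {g : G} (hg : g ∈ cz z) : ∃ f, Acts T g f := by
  classical
  refine ⟨fun n => if hn : n < 256 then T.π (g * (T.π_surj n hn).choose * g⁻¹) else 0, fun j hj => ?_⟩
  show _ = dite _ _ _
  rw [dif_pos (T.π_lt j hj)]
  obtain ⟨hc, e⟩ := (T.π_surj (T.π j) (T.π_lt j hj)).choose_spec
  generalize (T.π_surj (T.π j) (T.π_lt j hj)).choose = i at hc e
  refine (T.inZ_div (S.norm _ hg _ hj) (S.norm _ hg _ hc)).1 ?_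
  rw [show g * j * g⁻¹ * (g * i * g⁻¹)⁻¹ = g * (j * i⁻¹) * g⁻¹ by group]
  exact S.inZ_conj hg ((T.inZ_div hj hc).2 e.symm)

/-- an element of `C(z)` carries the action of a word to that of another -/
theorem map_word {g : G} {f : Nat → Nat} (hg : g ∈ cz z) (ha : Acts T g f) {w : List Nat}
    (hw : ∀ x ∈ w, x ∈ ptsL) :
    ∃ v, (∀ x ∈ v, x ∈ ptsL) ∧ ∀ n < 256, f (wM T.m w n) = wM T.m v (f n) := by
  obtain ⟨h, hh, -, hah⟩ := T.exists_lift hw
  obtain ⟨v, hv, -, hav⟩ := T.exists_acts (T.inner.norm g hg h hh)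
  refine ⟨v, hv, fun n hn => ?_⟩
  obtain ⟨j, hj, rfl⟩ := T.π_surj n hn
  rw [← hah j hj, ← ha _ (S.norm _ (T.h1_cz hh) _ hj), ← ha j hj, ← hav _ (S.norm _ hg _ hj)]
  congr 1
  group

end Frame

theorem natTree_ptsL : ∀ x ∈ stabN, x ∈ ptsL := by decide +kernel

theorem stabN_fix_ok : stabN.all (fun x => wM 2 [x] 5 == 5) = true := by decide +kernel

theorem smN_line_ok : ([0, 5, 10, 15] : List Nat).all (fun n =>
    (List.range 4).any fun l => smN l 5 == n) = true := by
  decide +kernel

/-- a map commuting with the transvections is a scalar -/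
theorem scalar_of_comm {K : Nat → Nat} (hlt : ∀ n < 256, K n < 256)
    (hadd : ∀ x y, x < 256 → y < 256 → K (x ^^^ y) = K x ^^^ K y)
    (hc : ∀ x ∈ ptsL, ∀ n < 256, K (tN x n) = tN x (K n)) :
    ∃ l < 4, ∀ n < 256, K n = smN l n := by
  have h5 : K 5 ∈ [0, 5, 10, 15] := by
    have h := List.all_eq_true.1 natLine_ok (K 5) (List.mem_range.2 (hlt 5 (by norm_num)))
    simp only [Bool.or_eq_true, List.contains_iff_mem, Bool.not_eq_true'] at h
    refine h.resolve_left ?_
    rw [Bool.not_eq_false, List.all_eq_true]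
    intro x hx
    rw [beq_iff_eq]
    show tN x (K 5) = K 5
    rw [← hc x (natTree_ptsL x hx) 5 (by norm_num)]
    exact congrArg K (beq_iff_eq.1 (List.all_eq_true.1 stabN_fix_ok x hx))
  have hl := List.all_eq_true.1 smN_line_ok _ h5
  simp only [List.any_eq_true, List.mem_range, beq_iff_eq] at hl
  obtain ⟨l, hl4, hl⟩ := hl
  refine ⟨l, hl4, ?_⟩
  have hcomm : ∀ x ∈ U62Cent47.genL, ∀ n < 256, tN x (smN l n) = smN l (tN x n) := fun x hx n hn =>
    beq_iff_eq.1 (List.all_eq_true.1 (List.all_eq_true.1 (List.all_eq_true.1 smN_comm_ok l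
      (List.mem_range.2 hl4)) x hx) n (List.mem_range.2 hn))
  have hbnd : ∀ e ∈ natTree, e.2.1 < 256 := by decide +kernel
  have htree : ∀ (L : List (Nat × Nat × Nat)) (D : List Nat),
      (∀ e ∈ L, e ∈ natTree) → (∀ n ∈ D, K n = smN l n) →
      (∀ k < L.length, ∀ e, L[k]? = some e → e.2.1 ∈ D ++ (L.take k).map (fun t : Nat × Nat × Nat => t.1)) →
      ∀ e ∈ L, K e.1 = smN l e.1 := by
    intro L
    induction L with
    | nil => exact fun _ _ _ _ e he => absurd he List.not_mem_nil
    | cons e₀ L ih =>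
      intro D hL hD hp e he
      have h0 : K e₀.1 = smN l e₀.1 := by
        have hpar := hp 0 (Nat.succ_pos _) e₀ rfl
        simp only [List.take_zero, List.map_nil, List.append_nil] at hpar
        have hok := List.all_eq_true.1 natTree_step_ok e₀ (hL e₀ List.mem_cons_self)
        simp only [Bool.and_eq_true, List.contains_iff_mem, beq_iff_eq] at hok
        have hb := hbnd e₀ (hL e₀ List.mem_cons_self)
        rw [← hok.2, hc _ (gen_pts _ hok.1) _ hb, hD _ hpar, hcomm _ hok.1 _ hb]
      rcases List.mem_cons.1 he with rfl | he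
      · exact h0
      refine ih (D ++ [e₀.1]) (fun x hx => hL x (List.mem_cons_of_mem _ hx)) ?_ ?_ e he
      · intro b hb
        rcases List.mem_append.1 hb with hb | hb
        · exact hD b hb
        · rw [List.mem_singleton.1 hb]; exact h0
      · intro k hk e' he'
        have := hp (k + 1) (Nat.succ_lt_succ hk) e' (by simpa using he')
        simpa [List.take_succ_cons] using this
  have h0 : K 0 = 0 := by
    have h := hadd 0 0 (by norm_num) (by norm_num)
    rwa [Nat.xor_self, Nat.xor_self] at h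
  have hsz : smN l 0 = 0 := by
    have hok : (List.range 4).all (fun l => smN l 0 == 0) = true := by decide +kernel
    exact beq_iff_eq.1 (List.all_eq_true.1 hok l (List.mem_range.2 hl4))
  have hmem : ∀ x ∈ 0 :: 5 :: natTree.map (fun e => e.1), K x = smN l x := by
    have hp : (List.range natTree.length).all (fun k =>
        ([5] ++ (natTree.take k).map (fun t : Nat × Nat × Nat => t.1)).contains
          (natTree.getD k (0, 0, 0)).2.1) = true := by
      decide +kernel
    intro x hx
    rcases List.mem_cons.1 hx with rfl | hx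
    · rw [h0, hsz]
    rcases List.mem_cons.1 hx with rfl | hx
    · exact hl.symm
    obtain ⟨e, he, rfl⟩ := List.mem_map.1 hx
    refine htree natTree [5] (fun _ he => he) (by simpa using hl.symm) (fun k hk e' he' => ?_) e he
    have := List.all_eq_true.1 hp k (List.mem_range.2 hk)
    rwa [List.getD_eq_getElem?_getD, he', Option.getD_some, List.contains_iff_mem] at this
  have hsadd : ∀ x y, x < 256 → y < 256 → smN l (x ^^^ y) = smN l x ^^^ smN l y := fun x y _ _ =>
    vec_inj (smN_lt _ _) (xor_lt8 (smN_lt _ _) (smN_lt _ _))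
      (by rw [vec_smN hl4, vec_xor, vec_xor, vec_smN hl4, vec_smN hl4, smul_add])
  have hb : ∀ x ∈ 0 :: 5 :: natTree.map (fun e => e.1), x < 256 := by decide +kernel
  intro n hn
  rw [map_bitsX h0 hadd hn, map_bitsX hsz hsadd hn]
  unfold bitsX
  have hj : ∀ j < 8, K (2 ^ j) = smN l (2 ^ j) := fun j hj => by
    have h := List.all_eq_true.1 natBasis_ok j (List.mem_range.2 hj)
    simp only [List.any_eq_true] at h
    obtain ⟨x, hx, hy⟩ := h
    rw [List.contains_iff_mem] at hy
    have e : 2 ^ j = x ^^^ (2 ^ j ^^^ x) := by rw [Nat.xor_comm (2 ^ j), ← Nat.xor_assoc, Nat.xor_self, Nat.zero_xor]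
    rw [e, hadd _ _ (hb x hx) (hb _ hy), hsadd _ _ (hb x hx) (hb _ hy), hmem _ hx, hmem _ hy]
  have key : ∀ L : List Nat, (∀ j ∈ L, j < 8) →
      L.foldr (fun j r => (bif n.testBit j then K (2 ^ j) else 0) ^^^ r) 0 =
        L.foldr (fun j r => (bif n.testBit j then smN l (2 ^ j) else 0) ^^^ r) 0 := by
    intro L
    induction L with
    | nil => exact fun _ => rfl
    | cons j L ih =>
      intro hL
      simp only [List.foldr_cons, ih fun k hk => hL k (List.mem_cons_of_mem _ hk),
        hj j (hL j List.mem_cons_self)]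
  exact key _ fun j hj => List.mem_range.1 hj

/-- a form preserving additive map commuting with scalars is given by a word -/
theorem linear_word {f : Nat → Nat} (hlt : ∀ n < 256, f n < 256)
    (hadd : ∀ x y, x < 256 → y < 256 → f (x ^^^ y) = f x ^^^ f y)
    (hsc : ∀ l < 4, ∀ n < 256, f (smN l n) = smN l (f n)) (hinv : ∀ n < 256, f (f n) = n)
    (hq : ∀ n < 256, qB 2 (f n) = qB 2 n) :
    ∃ w, (∀ x ∈ w, x ∈ ptsL) ∧ ∀ n < 256, f n = wM 2 w n := by
  classical
  set A : V4 → V4 := fun v => vec (f (code v)) with hA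
  have hcode : ∀ n < 256, code (vec n) = n := vec_inj_check
  have hAv : ∀ n < 256, A (vec n) = vec (f n) := fun n hn => by rw [hA]; simp only [hcode n hn]
  have hAadd : ∀ u v, A (u + v) = A u + A v := fun u v => by
    conv_lhs => rw [← (code_spec u).2, ← (code_spec v).2, ← vec_xor,
      hAv _ (xor_lt8 (code_spec u).1 (code_spec v).1), hadd _ _ (code_spec u).1 (code_spec v).1, vec_xor]
  have hAsm : ∀ (c : K4) v, A (c • v) = c • A v := fun c v => by
    conv_lhs => rw [← (code_spec v).2, ← (enc_spec c).2, ← vec_smN (enc_spec c).1,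
      hAv _ (smN_lt _ _), hsc _ (enc_spec c).1 _ (code_spec v).1, vec_smN (enc_spec c).1, (enc_spec c).2]
  have hAA : ∀ v, A (A v) = v := fun v => by
    show vec (f (code (vec (f (code v))))) = v
    rw [hcode _ (hlt _ (code_spec v).1), hinv _ (code_spec v).1, (code_spec v).2]
  let L : V4 →ₗ[K4] V4 := { toFun := A, map_add' := hAadd, map_smul' := hAsm }
  have hiso : ∀ v, h4 (A v) (A v) = h4 v v := by
    intro v
    have h := hq _ (code_spec v).1
    simp only [qB, Nat.reduceBEq, cond_true] at h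
    have e1 : h4 v v = dec (hN (code v) (code v)) := by rw [← h4_vec, (code_spec v).2]
    have e2 : h4 (A v) (A v) = dec (hN (f (code v)) (f (code v))) := h4_vec _ _
    have hr : ∀ u : V4, h4 u u = 0 ∨ h4 u u = 1 := fun u =>
      k4_real (by conv_lhs => arg 2; rw [← h4_swap]
                  exact k4_two _)
    by_cases h0 : hN (code v) (code v) = 0
    · rw [h0] at h e1
      simp only [bne_self_eq_false, bne_eq_false_iff_eq] at h
      rw [e1, e2, h]
    · rw [bne_iff_ne.2 h0, bne_iff_ne] at h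
      have n1 : h4 v v ≠ 0 := fun e => h0 ((dec_zero_iff (hN_lt _ _)).1 (e1.symm.trans e))
      have n2 : h4 (A v) (A v) ≠ 0 := fun e => h ((dec_zero_iff (hN_lt _ _)).1 (e2.symm.trans e))
      rw [(hr v).resolve_left n1, (hr (A v)).resolve_left n2]
  have key : ∀ a b : K4, (∀ c : K4, c * a + c * c * (a * a) = c * b + c * c * (b * b)) → a = b := by
    decide
  have hpres : ∀ u v, h4 (A u) (A v) = h4 u v := by
    intro u v
    refine key _ _ fun c => ?_
    have hexp : ∀ x y : V4, h4 (c • x + y) (c • x + y) =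
        (h4 (c • x) (c • x) + h4 y y) + (c * h4 x y + c * c * (h4 x y * h4 x y)) := fun x y => by
      rw [h4_add_left, h4_add_right, h4_add_right, h4_smul_right c y x, h4_swap x y]
      rw [h4_smul_left c x y]
      ring
    have h1 := hiso (c • u + v)
    rw [hAadd, hAsm, hexp, hexp, ← hAsm, hiso, hiso] at h1
    exact add_left_cancel h1
  set M : Matrix (Fin 4) (Fin 4) K4 := LinearMap.toMatrix' L with hM
  have hMv : ∀ v, Matrix.mulVec M v = A v := fun v => by
    rw [hM, LinearMap.toMatrix'_mulVec]; rfl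
  have hdet : M.det = 1 := by
    have hMM : M * M = 1 := Matrix.mulVec_injective (funext fun v => by
      rw [← Matrix.mulVec_mulVec, hMv, hMv, hAA, Matrix.one_mulVec])
    have hd : M.det * M.det = 1 := by rw [← Matrix.det_mul, hMM, Matrix.det_one]
    have hk : ∀ d : K4, d * d = 1 → d = 1 := by decide
    exact hk _ hd
  let X : SU4 := ⟨⟨M, hdet⟩, fun u v => by
    show Cfsg.hermForm 4 K4 2 (Matrix.mulVec M u) (Matrix.mulVec M v) = _
    rw [herm_eq, herm_eq, hMv, hMv, hpres]⟩
  obtain ⟨w, hw, e⟩ := U62Cent47.exists_word X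
  have hwp : ∀ x ∈ w, x ∈ ptsL := fun x hx => gen_pts x (hw x hx)
  refine ⟨w, hwp, fun n hn => vec_inj (hlt n hn) (wM_lt _ _ hn) ?_⟩
  rw [wM_two, ← wS_vec hwp, e, ← hAv n hn]
  exact (hMv _).symm

namespace Frame

variable (T : Frame z a J H1) (S : Hyp z a J) (hm : T.m = 2)

include T S hm

/-- an outer involution is semilinear -/
theorem nat_outer [Finite G] {g : G} (hg : g ∈ cza z a) (hg1 : g ∉ H1) (hgg : g * g ∈ J) {h : G}
    (hh : h ∈ H1) (h2 : Inv2 J h) :
    Nat.card (CV z a J g ∩ CV z a J h : Set G) ^ 2 ≤ 4 * Nat.card (CV z a J h) := by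
  classical
  obtain ⟨f, hf⟩ := T.exists_map S hg.1
  obtain ⟨w, hw, -, haw⟩ := T.exists_acts hh
  rw [hm] at haw
  have hlt : ∀ n < 256, f n < 256 := fun n hn => T.acts_lt S hg.1 hf hn
  have hadd : ∀ x y, x < 256 → y < 256 → f (x ^^^ y) = f x ^^^ f y := fun x y hx hy =>
    T.acts_xor S hg.1 hf hx hy
  have hinv := (T.inv2_congr S hg hf).1 hgg
  have hsm : ∀ l < 4, ∀ v : List Nat, (∀ x ∈ v, x ∈ ptsL) → ∀ n < 256,
      wM 2 v (smN l n) = smN l (wM 2 v n) := fun l hl v hv n hn =>
    vec_inj (wM_lt _ _ (smN_lt _ _)) (smN_lt _ _) (by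
      rw [vec_smN hl, wM_two, wM_two, ← wS_vec hv, vec_smN hl, Matrix.mulVec_smul, wS_vec hv])
  have hsadd : ∀ l < 4, ∀ x y, smN l (x ^^^ y) = smN l x ^^^ smN l y := fun l hl x y =>
    vec_inj (smN_lt _ _) (xor_lt8 (smN_lt _ _) (smN_lt _ _))
      (by rw [vec_smN hl, vec_xor, vec_xor, vec_smN hl, vec_smN hl, smul_add])
  set K : Nat → Nat := fun n => f (smN 2 (f n)) with hK
  obtain ⟨l, hl, hKl⟩ := scalar_of_comm (K := K) (fun n hn => hlt _ (smN_lt _ _))
    (fun x y hx hy => by
      show f _ = f _ ^^^ f _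
      rw [hadd x y hx hy, hsadd 2 (by norm_num), hadd _ _ (smN_lt _ _) (smN_lt _ _)])
    (fun x hx n hn => by
      obtain ⟨v, hv, hfv⟩ := T.map_word S hg.1 hf (w := [x]) (by simpa using hx)
      rw [hm] at hfv
      show f (smN 2 (f (wM 2 [x] n))) = wM 2 [x] (f (smN 2 (f n)))
      rw [hfv n hn, ← hsm 2 (by norm_num) v hv _ (hlt n hn)]
      have hb : smN 2 (f n) < 256 := smN_lt _ _
      have h1 := hfv (f (smN 2 (f n))) (hlt _ hb)
      rw [hinv _ hb] at h1
      rw [← h1, hinv _ (wM_lt _ _ (hlt _ hb))])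
  have hconj : ∀ n < 256, f (smN 2 n) = smN l (f n) := fun n hn => by
    rw [← hKl _ (hlt n hn), hK]; simp only [hinv n hn]
  have hl3 : l = 3 := by
    have hcases : ∀ l < 4, l = 3 ∨ l = 2 ∨ smN l 5 = 0 ∨ smN l 5 = 5 := by decide +kernel
    have e5 : ∀ x, f (smN 2 5) = x → x < 256 → f x = smN 2 5 := fun x hx _ => by
      rw [← hx, hinv _ (smN_lt _ _)]
    rcases hcases l hl with e | e | e | e
    · exact e
    · subst e
      exfalso
      have hsc : ∀ l < 4, ∀ n < 256, f (smN l n) = smN l (f n) := by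
        intro l hl n hn
        have hz : ∀ n < 256, smN 0 n = 0 ∧ smN 1 n = n ∧ smN 3 n = smN 2 (smN 2 n) := by decide +kernel
        have hl' : l = 0 ∨ l = 1 ∨ l = 2 ∨ l = 3 := by omega
        rcases hl' with rfl | rfl | rfl | rfl
        · rw [(hz n hn).1, T.acts_zero S hg.1 hf, (hz _ (hlt n hn)).1]
        · rw [(hz n hn).2.1, (hz _ (hlt n hn)).2.1]
        · exact hconj n hn
        · rw [(hz n hn).2.2, hconj _ (smN_lt _ _), hconj n hn, (hz _ (hlt n hn)).2.2]
      obtain ⟨v, hv, hfv⟩ := linear_word hlt hadd hsc hinv fun n hn => by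
        have := T.acts_q S hg.1 hf hn
        rwa [hm] at this
      obtain ⟨k, hk, -, hak⟩ := T.exists_lift hv
      rw [hm] at hak
      have hJ := T.same_mem S hg (T.inner.le hk) hf hak hfv
      exact hg1 (by simpa using mul_mem (T.inner.ge hJ) hk)
    · have h := hKl 5 (by norm_num)
      rw [e] at h
      have h' := hinv _ (smN_lt 2 (f 5))
      rw [hK] at h
      simp only at h
      rw [h, T.acts_zero S hg.1 hf] at h'
      have hz : ∀ n < 256, smN 2 n = 0 → n = 0 := by decide +kernel
      have := hz _ (hlt 5 (by norm_num)) h'.symm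
      have h5 := hinv 5 (by norm_num)
      rw [this, T.acts_zero S hg.1 hf] at h5
      exact absurd h5 (by norm_num)
    · have h := hKl 5 (by norm_num)
      rw [e] at h
      have h' := hinv _ (smN_lt 2 (f 5))
      rw [hK] at h
      simp only at h
      rw [h] at h'
      have hz : ∀ n < 256, smN 2 n = n → n = 0 := by decide +kernel
      have := hz _ (hlt 5 (by norm_num)) h'.symm
      have h5 := hinv 5 (by norm_num)
      rw [this, T.acts_zero S hg.1 hf] at h5
      exact absurd h5 (by norm_num)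
  subst hl3
  rw [T.card_CV2 S hg.1 (T.h1_cz hh) hf haw, T.card_CV S (T.h1_cz hh) haw]
  set P := ((List.range 256).filter fun n => f n == n && wM 2 w n == n).toFinset with hP
  set R := ((List.range 256).filter fun n => wM 2 w n == n).toFinset with hR
  have cP : P.card = cFix2 f (wM 2 w) := List.toFinset_card_of_nodup (List.Nodup.filter _ List.nodup_range)
  have cR : R.card = cFix (wM 2 w) := List.toFinset_card_of_nodup (List.Nodup.filter _ List.nodup_range)
  have mP : ∀ {n}, n ∈ P → n < 256 ∧ f n = n ∧ wM 2 w n = n := fun {n} h => by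
    simpa [hP] using h
  have hbound : P.card * P.card ≤ R.card := by
    rw [← Finset.card_product]
    refine Finset.card_le_card_of_injOn (fun p => p.1 ^^^ smN 2 p.2) (fun p hp => ?_) ?_
    · obtain ⟨⟨h1, -, e1⟩, ⟨h2', -, e2⟩⟩ := And.intro (mP (Finset.mem_product.1 hp).1)
        (mP (Finset.mem_product.1 hp).2)
      have hb := xor_lt8 h1 (smN_lt 2 p.2)
      simp only [hR, Finset.mem_coe, List.mem_toFinset, List.mem_filter, List.mem_range, beq_iff_eq]
      refine ⟨hb, ?_⟩
      rw [wM_xor _ _ h1 (smN_lt _ _), hsm 2 (by norm_num) w hw _ h2', e1, e2]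
    · intro p hp q hq e
      obtain ⟨p1, f1, -⟩ := mP (Finset.mem_product.1 hp).1
      obtain ⟨p2, f2, -⟩ := mP (Finset.mem_product.1 hp).2
      obtain ⟨q1, g1, -⟩ := mP (Finset.mem_product.1 hq).1
      obtain ⟨q2, g2, -⟩ := mP (Finset.mem_product.1 hq).2
      simp only at e
      have e' := congrArg f e
      rw [hadd _ _ p1 (smN_lt _ _), hadd _ _ q1 (smN_lt _ _), hconj _ p2, hconj _ q2, f1, f2, g1, g2] at e'
      have v1 := congrArg vec e
      have v2 := congrArg vec e'
      simp only [vec_xor, vec_smN (show (2 : Nat) < 4 by norm_num),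
        vec_smN (show (3 : Nat) < 4 by norm_num)] at v1 v2
      have hk : ∀ a b c d : K4, a + dec 2 * b = c + dec 2 * d → a + dec 3 * b = c + dec 3 * d →
          a = c ∧ b = d := by decide
      have hh' : ∀ i, vec p.1 i = vec q.1 i ∧ vec p.2 i = vec q.2 i := fun i =>
        hk _ _ _ _ (congrFun v1 i) (congrFun v2 i)
      exact Prod.ext (vec_inj p1 q1 (funext fun i => (hh' i).1))
        (vec_inj p2 q2 (funext fun i => (hh' i).2))
  rw [cP, cR] at hbound
  nlinarith [hbound]

end Frame

end Cfsg.Agent.Lib.Fi22Recog95.Mod
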