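import Cfsg.Agent.Lib.Fi22Recog95.Mod.SixForm

/-!
Recognition of Fi22, the module: the facts of the six-dimensional case.

Owner: helper7 (for helper95).
-/

set_option autoImplicit false
set_option linter.style.haveILetI false
set_option maxRecDepth 20000

namespace Cfsg.Agent.Lib.Fi22Recog95.Mod

open Cfsg.Agent.Lib.U62Cent47 Cfsg.Agent.Lib.U62Recog47

theorem o4L_pts : ∀ w ∈ o4L, ∀ x ∈ w, x ∈ ptsL := by decide +kernel

theorem sigFix_ok : ∀ m < 2, ∀ s ∈ sigL m, ((List.range 4).filter fun u => s.getD u 0 == u).length ≤ 4 ∧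
    ∃ u < 4, qU m u = true ∧ s.getD u 0 = u := by decide +kernel

theorem qU_three : ∀ m < 2, qU m 3 = true := by decide +kernel

theorem mem_fix {w : List Nat} {y : Nat} (h : y < 64) (e : wM 0 w y = y) {m : Nat} (hm : m < 2) :
    wM m w y = y := (wM_six hm w (by omega)).trans e

universe u

variable {G : Type u} [Group G] [Finite G] {z a : G} {J H1 : Subgroup G}

namespace Frame

variable (T : Frame z a J H1) (S : Hyp z a J) (hm : T.m < 2)
  (hcent : ∀ g ∈ cz z, (∀ h ∈ H1, CommMod J g h) → g ∈ J)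

omit [Finite G] in
/-- a map on the joined codes -/
theorem eq_of_join {f f' : Nat → Nat} (e : ∀ y < 64, ∀ u < 4, f (joinC y u) = f' (joinC y u)) :
    ∀ n < 256, f n = f' n := fun n hn => by
  obtain ⟨h1, h2, h3, -⟩ := joinC_split n hn
  rw [← h3]; exact e _ h1 _ h2

include T S hm

omit [Finite G] in
theorem cFix_six (w : List Nat) : cFix (wM T.m w) = cFix (wM 0 w) :=
  cFix_congr fun _ hn => wM_six hm w hn

theorem six_size {h : G} (hh : h ∈ H1) (h2 : Inv2 J h) : Nat.card (CV z a J h) = 256 := by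
  obtain ⟨k, hk, w, hw, e⟩ := T.exists_form S hh h2
  have ha := T.acts_word (T.h1_conj hk hh) (invL_pts hw) e.symm
  rw [← card_CV_conj S (T.h1_cz hk), T.card_CV S (T.h1_cz (T.h1_conj hk hh)) ha, T.cFix_six S hm w,
    beq_iff_eq.1 (List.all_eq_true.1 sixSize_ok w hw)]

omit [Finite G] in
/-- a square-trivial action of an outer form -/
theorem outer_sq {s t : List Nat} (hs : s ∈ sigL T.m) {x : List Nat}
    (e : eq6 (fun n => o6 t (o6 t n)) (wM 0 x) = true) :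
    ∀ n < 256, oM T.m s t (oM T.m s t n) = wM T.m x n := by
  refine eq_of_join fun y hy u hu => ?_
  obtain ⟨hb, hb'⟩ := sigL_ok T.m hm s hs u hu
  rw [oM_join hm s t hy hu, oM_join hm s t ((add6_o6 t).1 y hy) hb, hb', wM_join hm x hy hu]
  congr 1
  simp only [eq6, List.all_eq_true, List.mem_range, beq_iff_eq] at e
  exact ext6 (add6_comp (add6_o6 t) (add6_o6 t)) (add6_wM x) e hy

omit [Finite G] in
/-- commuting actions of an outer form and a word -/
theorem outer_comm {s t x : List Nat} (hs : s ∈ sigL T.m)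
    (e : ∀ n < 256, oM T.m s t (wM T.m x n) = wM T.m x (oM T.m s t n)) :
    eq6 (fun n => o6 t (wM 0 x n)) (fun n => wM 0 x (o6 t n)) = true := by
  simp only [eq6, List.all_eq_true, List.mem_range, beq_iff_eq]
  intro j hj
  have hp : 2 ^ j < 64 := lt_of_lt_of_le (Nat.pow_lt_pow_right (by norm_num) hj) (by norm_num)
  have h := e _ (joinC_ok _ hp 0 (by norm_num)).1
  obtain ⟨hb, -⟩ := sigL_ok T.m hm s hs 0 (by norm_num)
  rw [wM_join hm x hp (by norm_num), oM_join hm s t (six_lt x hp) (by norm_num),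
    oM_join hm s t hp (by norm_num), wM_join hm x ((add6_o6 t).1 _ hp) hb] at h
  exact (joinC_inj ((add6_o6 t).1 _ (six_lt x hp)) (six_lt x ((add6_o6 t).1 _ hp)) hb hb h).1

include hcent

theorem six_four {g : G} (hg : g ∈ cza z a) (h2 : Inv2 J (g * g)) :
    Nat.card (CV z a J g) ≤ 128 ∧ (g ∈ H1 → Nat.card (CV z a J g) ≤ 64) := by
  have hin : g ∈ H1 → Nat.card (CV z a J g) ≤ 64 := by
    intro hg1
    obtain ⟨e4, e2⟩ := (T.inv2_iff (mul_mem hg1 hg1)).1 h2
    rw [show (⟨g * g, mul_mem hg1 hg1⟩ : ↥H1) = ⟨g, hg1⟩ * ⟨g, hg1⟩ from rfl, map_mul] at e4 e2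
    obtain ⟨B, w, hw, e⟩ := exists_conj_four e4 e2
    obtain ⟨⟨k, hk⟩, rfl⟩ := T.φ_surj B
    rw [← T.φ_conj hk hg1] at e
    have ha := T.acts_word (T.h1_conj hk hg1) (o4L_pts w hw) e.symm
    rw [← card_CV_conj S (T.h1_cz hk), T.card_CV S (T.h1_cz (T.h1_conj hk hg1)) ha, T.cFix_six S hm w]
    have := List.all_eq_true.1 sixFour_inner_ok w hw
    simp only [decide_eq_true_eq] at this
    omega
  refine ⟨?_, hin⟩
  by_cases hg1 : g ∈ H1
  · have := hin hg1
    omega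
  obtain ⟨k, hk, s, hs, t, ht, ha⟩ := T.outer_form S hm hcent hg hg1 (e := 2)
    (by rw [show (2 : ℕ) ^ 2 = 2 * 2 from rfl, pow_mul, pow_two, pow_two]; exact h2.1)
  have hg' : k * g * k⁻¹ ∈ cza z a := S.cza_normal hk.1 hg
  rw [← card_CV_conj S hk.1, T.card_CV S hg'.1 ha]
  have hok := List.all_eq_true.1 (List.all_eq_true.1 (List.all_eq_true.1 sixFour_outer_ok T.m
    (by have := hm; simp; omega)) s hs) t ht
  simp only [Bool.or_eq_true, decide_eq_true_eq] at hok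
  rcases hok with h | h
  · exfalso
    have h1 : k * g * k⁻¹ * (k * g * k⁻¹) ∈ J := T.faith S (mul_mem hg' hg')
      (T.acts_mul S hg'.1 ha ha)
      (T.acts_eqB' S (mul_mem hg'.1 hg'.1) (one_mem _) (T.acts_mul S hg'.1 ha ha)
        (T.acts_J S (one_mem _)) h)
    rw [show k * g * k⁻¹ * (k * g * k⁻¹) = k * (g * g) * k⁻¹ by group, mem_J_conj S hk.1] at h1
    exact h2.2 h1
  · omega

theorem six_four_comm {g : G} (hg : g ∈ cza z a) (h2 : Inv2 J (g * g)) {h : G} (hh : h ∈ H1)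
    (hi : Inv2 J h) (hc : CommMod J g h) (hb : 128 ≤ Nat.card (CV z a J g ∩ CV z a J h : Set G)) :
    g * g * h ∈ J := by
  -- reduction to a conjugate
  suffices key : ∀ g, g ∈ cza z a → ∀ f, Acts T g f → ∀ h, h ∈ H1 → Inv2 J h → CommMod J g h →
      128 ≤ Nat.card (CV z a J g ∩ CV z a J h : Set G) →
      ((∃ w ∈ o4L, f = wM T.m w) ∨
        (∃ s ∈ sigL T.m, ∃ t ∈ sylL, f = oM T.m s t ∧ g * g ∉ J)) → g * g * h ∈ J by
    have fin : ∀ k, k ∈ cza z a → ∀ f, Acts T (k * g * k⁻¹) f →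
        ((∃ w ∈ o4L, f = wM T.m w) ∨
          (∃ s ∈ sigL T.m, ∃ t ∈ sylL, f = oM T.m s t ∧ k * g * k⁻¹ * (k * g * k⁻¹) ∉ J)) →
        g * g * h ∈ J := by
      intro k hk f hf hcase
      have := key _ (S.cza_normal hk.1 hg) f hf _ (T.inner.norm k hk.1 h hh) ((inv2_conj S hk.1).2 hi)
        ((commMod_conj S hk.1).2 hc) (by rwa [card_CV2_conj S hk.1]) hcase
      rw [show k * g * k⁻¹ * (k * g * k⁻¹) * (k * h * k⁻¹) = k * (g * g * h) * k⁻¹ by group,
        mem_J_conj S hk.1] at this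
      exact this
    by_cases hg1 : g ∈ H1
    · obtain ⟨e4, e2⟩ := (T.inv2_iff (mul_mem hg1 hg1)).1 h2
      rw [show (⟨g * g, mul_mem hg1 hg1⟩ : ↥H1) = ⟨g, hg1⟩ * ⟨g, hg1⟩ from rfl, map_mul] at e4 e2
      obtain ⟨B, w, hw, e⟩ := exists_conj_four e4 e2
      obtain ⟨⟨k, hk⟩, rfl⟩ := T.φ_surj B
      rw [← T.φ_conj hk hg1] at e
      exact fin k (T.inner.le hk) _ (T.acts_word (T.h1_conj hk hg1) (o4L_pts w hw) e.symm)
        (Or.inl ⟨w, hw, rfl⟩)
    · obtain ⟨k, hk, s, hs, t, ht, ha⟩ := T.outer_form S hm hcent hg hg1 (e := 2)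
        (by rw [show (2 : ℕ) ^ 2 = 2 * 2 from rfl, pow_mul, pow_two, pow_two]; exact h2.1)
      refine fin k hk _ ha (Or.inr ⟨s, hs, t, ht, rfl, fun h1 => h2.2 ?_⟩)
      rwa [show k * g * k⁻¹ * (k * g * k⁻¹) = k * (g * g) * k⁻¹ by group, mem_J_conj S hk.1] at h1
  clear h2 hb hc hi hh hg g h
  intro g hg f hf h hh hi hc hb hcase
  obtain ⟨x, hx, -, hax⟩ := T.exists_invW hh hi
  have hcomm := (T.commMod_iff S hg (T.inner.le hh) hf hax).1 hc
  rw [T.card_CV2 S hg.1 (T.h1_cz hh) hf hax] at hb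
  have fin : (∀ n < 256, f (f n) = wM T.m x n) → g * g * h ∈ J := fun e => by
    have h1 := T.same_mem S (mul_mem hg hg) (T.inner.le hh) (T.acts_mul S hg.1 hf hf) hax e
    have h3 := mul_mem h1 hi.1
    rwa [show g * g * h⁻¹ * (h * h) = g * g * h by group] at h3
  rcases hcase with ⟨w, hw, rfl⟩ | ⟨s, hs, t, ht, rfl, hgg⟩
  · have hok := List.all_eq_true.1 (List.all_eq_true.1 sixFourComm_inner_ok w hw) x hx
    have hm0 : ∀ v : List Nat, ∀ n < 256, wM T.m v n = wM 0 v n := fun v n hn => wM_six hm v hn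
    have hc' : eqB (fun n => wM 0 w (wM 0 x n)) (fun n => wM 0 x (wM 0 w n)) = true := by
      simp only [eqB, List.all_eq_true, List.mem_range, beq_iff_eq]
      intro j hj
      have h1 := hcomm _ (pow_lt hj)
      rwa [hm0 x _ (pow_lt hj), hm0 w _ (wM_lt _ _ (pow_lt hj)), hm0 w _ (pow_lt hj),
        hm0 x _ (wM_lt _ _ (pow_lt hj))] at h1
    simp only [hc', Bool.not_true, Bool.false_or, Bool.or_eq_true, decide_eq_true_eq] at hok
    rcases hok with h1 | h1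
    · refine fin fun n hn => T.acts_eqB' S (mul_mem hg.1 hg.1) (T.h1_cz hh) (T.acts_mul S hg.1 hf hf)
        hax ?_ n hn
      simp only [eqB, List.all_eq_true, List.mem_range, beq_iff_eq] at h1 ⊢
      intro j hj
      rw [hm0 w _ (pow_lt hj), hm0 w _ (wM_lt _ _ (pow_lt hj)), hm0 x _ (pow_lt hj)]
      exact h1 j hj
    · have : cFix2 (wM T.m w) (wM T.m x) = cFix2 (wM 0 w) (wM 0 x) :=
        congrArg List.length (List.filter_congr fun n hn => by
          rw [hm0 w n (List.mem_range.1 hn), hm0 x n (List.mem_range.1 hn)])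
      omega
  · have hok := List.all_eq_true.1 sixFourComm_outer_ok t ht
    have h6 : eq6 (fun n => o6 t (o6 t n)) id = false := by
      rw [Bool.eq_false_iff]
      intro h1
      refine hgg (T.faith S (mul_mem hg hg) (T.acts_mul S hg.1 hf hf) fun n hn => ?_)
      exact T.outer_sq S hm hs (x := []) h1 n hn
    simp only [h6, Bool.false_or, List.all_eq_true] at hok
    have hok' := hok x hx
    simp only [T.outer_comm S hm hs hcomm, Bool.not_true, Bool.false_or, Bool.or_eq_true,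
      decide_eq_true_eq] at hok'
    rcases hok' with h1 | h1
    · exact fin (T.outer_sq S hm hs h1)
    · exfalso
      rw [cFix2_split hm s t x hs] at hb
      have := (sigFix_ok T.m hm s hs).1
      nlinarith

theorem six_triv : ∃ e ∈ J, e * e = z ∧ ∀ h ∈ cza z a, InZ z a (h * e * h⁻¹ * e⁻¹) := by
  obtain ⟨u, hu, hq, hfix⟩ : ∃ u < 4, qU T.m u = true ∧
      ∀ g ∈ cza z a, g ∉ H1 → ∀ f, Acts T g f → f (joinC 0 u) = joinC 0 u := by
    by_cases h : ∃ g ∈ cza z a, g ∉ H1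
    · obtain ⟨g₀, hg₀, hg₁⟩ := h
      obtain ⟨s, hs, w, hw, ha⟩ := T.outer_word S hm hcent hg₀ hg₁
      obtain ⟨u, hu, hq, hsu⟩ := (sigFix_ok T.m hm s hs).2
      refine ⟨u, hu, hq, fun g hg hg1 f hf => ?_⟩
      have hk : g₀⁻¹ * g ∈ H1 :=
        T.inner.prod _ (inv_mem hg₀.1) _ hg.1 (fun h' => hg₁ (by simpa using inv_mem h')) hg1
      obtain ⟨v, hv, -, hav⟩ := T.exists_acts hk
      have h1 := T.acts_mul S (T.h1_cz hk) ha hav
      rw [mul_inv_cancel_left] at h1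
      rw [T.acts_unique hf h1 _ (joinC_ok 0 (by norm_num) u hu).1, wM_join hm v (by norm_num) hu,
        wM_zero, oM_join hm s w (by norm_num) hu, hsu,
        show o6 w 0 = 0 from by rw [o6, wM_zero]; decide +kernel]
    · exact ⟨3, by norm_num, qU_three T.m hm, fun g hg hg1 => absurd ⟨g, hg, hg1⟩ h⟩
  have hn := (joinC_ok 0 (by norm_num) u hu).1
  obtain ⟨e, he, hπ⟩ := T.π_surj _ hn
  refine ⟨e, he, ?_, fun h hh => ?_⟩
  · rw [T.sq e he, hπ, (joinC_qB T.m hm 0 (by norm_num) u hu).2.2, hq]; rfl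
  · by_cases h1 : h ∈ H1
    · obtain ⟨v, hv, -, hav⟩ := T.exists_acts h1
      exact ((T.mem_CV S hh.1 hav).2 ⟨he, by rw [hπ, wM_join hm v (by norm_num) hu, wM_zero]⟩).2
    · obtain ⟨f, hf⟩ := T.exists_map S hh.1
      exact ((T.mem_CV S hh.1 hf).2 ⟨he, by rw [hπ]; exact hfix h hh h1 f hf⟩).2

theorem six_outer {d : G} (hd : d ∈ cza z a) (hd1 : d ∉ H1) (hdd : d * d ∈ J) {x : G} (hx : x ∈ H1)
    (hxi : Inv2 J x) (hc : CommMod J d x)
    (hb : 128 ≤ Nat.card (CV z a J d ∩ CV z a J x : Set G)) :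
    ∃ v ∈ IV z a J d, v ∈ CV z a J x ∧ v * v = z := by
  obtain ⟨k, hk, s, hs, t, ht, ha⟩ := T.outer_form S hm hcent hd hd1 (e := 1) (by rwa [pow_one, pow_two])
  have hd' : k * d * k⁻¹ ∈ cza z a := S.cza_normal hk.1 hd
  have hx' : k * x * k⁻¹ ∈ H1 := T.inner.norm k hk.1 x hx
  obtain ⟨v, hv, -, hav⟩ := T.exists_invW hx' ((inv2_conj S hk.1).2 hxi)
  have hcomm := (T.commMod_iff S hd' (T.inner.le hx') ha hav).1 ((commMod_conj S hk.1).2 hc)
  rw [← card_CV2_conj S hk.1, T.card_CV2 S hd'.1 (T.h1_cz hx') ha hav, cFix2_split hm s t v hs] at hb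
  have h6 : eq6 (fun n => o6 t (o6 t n)) id = true := by
    simp only [eq6, List.all_eq_true, List.mem_range, beq_iff_eq, id]
    intro j hj
    have hp : 2 ^ j < 64 := lt_of_lt_of_le (Nat.pow_lt_pow_right (by norm_num) hj) (by norm_num)
    obtain ⟨hb', hb''⟩ := sigL_ok T.m hm s hs 0 (by norm_num)
    have h1 : k * d * k⁻¹ * (k * d * k⁻¹) ∈ J := by
      rwa [show k * d * k⁻¹ * (k * d * k⁻¹) = k * (d * d) * k⁻¹ by group, mem_J_conj S hk.1]
    have h := (T.inv2_congr S hd' ha).1 h1 _ (joinC_ok _ hp 0 (by norm_num)).1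
    rw [oM_join hm s t hp (by norm_num), oM_join hm s t ((add6_o6 t).1 _ hp) hb', hb''] at h
    exact (joinC_inj ((add6_o6 t).1 _ ((add6_o6 t).1 _ hp)) hp (by norm_num) (by norm_num) h).1
  have hok := List.all_eq_true.1 sixOuterInv_ok t ht
  simp only [h6, Bool.not_true, Bool.false_or, List.all_eq_true] at hok
  have hok' := hok v hv
  simp only [T.outer_comm S hm hs hcomm, Bool.not_true, Bool.false_or, Bool.or_eq_true,
    decide_eq_true_eq, List.any_eq_true, List.mem_range, Bool.and_eq_true, beq_iff_eq] at hok'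
  rcases hok' with h | ⟨y, hy, hfix, hq⟩
  · exfalso
    have := (sigFix_ok T.m hm s hs).1
    nlinarith
  have hy' := (add6_o6 t).1 y hy
  have himg : o6 t y ^^^ y < 64 := Nat.xor_lt_two_pow (n := 6) hy' hy
  obtain ⟨j, hj, hπ⟩ := T.π_surj _ (show o6 t y ^^^ y < 256 by omega)
  obtain ⟨i, rfl⟩ : ∃ i, j = k * i * k⁻¹ := ⟨k⁻¹ * j * k, by group⟩
  refine ⟨i, (mem_IV_conj S hk.1).1 ((T.mem_IV S hd'.1 ha).2 ⟨hj, y, by omega, ?_⟩),
    (mem_CV_conj S hk.1).1 ((T.mem_CV S (T.h1_cz hx') hav).2 ⟨hj, ?_⟩), sq_conj_z S hk.1 ?_⟩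
  · rw [hπ]
    conv_lhs => rw [← (joinC_ok y hy 0 (by norm_num)).2.2.2.2, oM_join hm s t hy (by norm_num)]
    rw [show s.getD 0 0 = 0 from by
      have hok : ∀ m < 2, ∀ s ∈ sigL m, s.getD 0 0 = 0 := by decide +kernel
      exact hok T.m hm s hs]
    simp [joinC]
  · rw [hπ]; exact mem_fix himg hfix hm
  · rw [T.sq _ hj, hπ, (joinC_qB T.m hm _ himg 0 (by norm_num)).2.1, hq]; rfl

omit hcent in
theorem six_sing {h : G} (hh : h ∈ H1) (h2 : Inv2 J h) (hs : ∀ j ∈ IV z a J h, j * j = 1) :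
    ∃ n ∈ H1, Odd (orderOf n) ∧ CommMod J n h ∧ ∀ j ∈ IV z a J h, j ∈ CV z a J n → InZ z a j := by
  obtain ⟨k, hk, w, hw, ew⟩ := T.exists_form S hh h2
  have hkc := T.h1_cz hk
  have haw := T.acts_word (T.h1_conj hk hh) (invL_pts hw) ew.symm
  obtain ⟨e, he, hew⟩ := List.any_eq_true.1 (List.all_eq_true.1 sixN_cover w hw)
  have hew' : e.1 = w := eq_of_beq hew
  have hok := List.all_eq_true.1 sixN_ok e he
  simp only [Bool.and_eq_true, List.all_eq_true, List.contains_iff_mem, hew'] at hok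
  obtain ⟨⟨⟨hpts, h3⟩, hcm⟩, -⟩ := hok
  have e3 : wS e.2 ^ 3 = 1 := by
    rw [pow_succ, pow_two, ← wS_append, ← wS_append, wS_of_eqW h3, wS_nil]
  have hcm' : wS w * wS e.2 = wS e.2 * wS w := by rw [← wS_append, ← wS_append, wS_of_eqW hcm]
  obtain ⟨n, hn, -, en, hodd⟩ := T.exists_odd S hpts e3 (by decide) (dvd_refl 1024) (by norm_num)
  have han := T.acts_word hn hpts en.symm
  have hn' : k⁻¹ * n * k ∈ H1 := mul_mem (mul_mem (inv_mem hk) hn) hk
  have eback : ∀ x : G, k * (k⁻¹ * x * k) * k⁻¹ = x := fun x => by group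
  refine ⟨k⁻¹ * n * k, hn', by rw [← MulAut.conj_inv_apply, MulEquiv.orderOf_eq]; exact hodd, ?_, ?_⟩
  · rw [← commMod_conj S hkc, eback, T.commMod_φ hn (T.h1_conj hk hh), en, ew, hcm']
  intro j hj hjn
  have hj1 := (mem_IV_conj S hkc).2 hj
  have hjn1 : k * j * k⁻¹ ∈ CV z a J n := by rw [← eback n]; exact (mem_CV_conj S hkc).2 hjn
  obtain ⟨hjJ, i, hi, hie⟩ := (T.mem_IV S (T.h1_cz (T.h1_conj hk hh)) haw).1 hj1
  obtain ⟨b1, b2, b3, -⟩ := joinC_split i hi
  have hcode : T.π (k * j * k⁻¹) = wM 0 w (i &&& 63) ^^^ (i &&& 63) := by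
    rw [← hie, ← b3, wM_join hm w b1 b2, (joinC_ok _ b1 _ b2).2.1, joinC, joinC, xor_swap4,
      Nat.xor_self, Nat.xor_zero]
  have himg : wM 0 w (i &&& 63) ^^^ (i &&& 63) < 64 := Nat.xor_lt_two_pow (n := 6) (six_lt w b1) b1
  have hok := List.all_eq_true.1 sixSing_ok e he
  simp only [hew', Bool.or_eq_true, List.any_eq_true, List.all_eq_true, List.mem_range, Bool.not_eq_true',
    beq_eq_false_iff_ne, beq_iff_eq] at hok
  rcases hok with ⟨y, hy, hq⟩ | hok
  · exfalso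
    have hy6 : wM 0 w y ^^^ y < 64 := Nat.xor_lt_two_pow (n := 6) (six_lt w hy) hy
    obtain ⟨b, hb, hπ⟩ := T.π_surj _ (show wM 0 w y ^^^ y < 256 by omega)
    obtain ⟨c, rfl⟩ : ∃ c, b = k * c * k⁻¹ := ⟨k⁻¹ * b * k, by group⟩
    have hciv : c ∈ IV z a J h := (mem_IV_conj S hkc).1
      ((T.mem_IV S (T.h1_cz (T.h1_conj hk hh)) haw).2 ⟨hb, y, by omega, by rw [wM_six hm w (by omega), hπ]⟩)
    have h1 := T.sq _ hb
    rw [hπ, (joinC_qB T.m hm _ hy6 0 (by norm_num)).2.1, hq,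
      show k * c * k⁻¹ * (k * c * k⁻¹) = k * (c * c) * k⁻¹ by group, hs c hciv] at h1
    exact S.z_ne (by simpa using h1.symm)
  · have hfix := ((T.mem_CV S (T.h1_cz hn) han).1 hjn1).2
    rw [hcode, wM_six hm e.2 (by omega)] at hfix
    have := (hok _ b1).resolve_left (not_not.2 hfix)
    exact (inZ_conj_iff S hkc).1 ((T.π_zero _ hjJ).1 (hcode.trans this))

end Frame

end Cfsg.Agent.Lib.Fi22Recog95.Mod
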