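import Cfsg.Agent.Lib.Fi22Recog95.Mod.NatOuter
import Cfsg.Agent.Lib.Fi22Recog95.Mod.ChecksSix
import Cfsg.Agent.Lib.Fi22Recog95.Mod.ChecksOuter

/-!
Recognition of Fi22, the module: the six-dimensional case, normal forms of the elements outside `H1`.

Owner: helper7 (for helper95).
-/

set_option autoImplicit false
set_option linter.style.haveILetI false
set_option maxRecDepth 20000

namespace Cfsg.Agent.Lib.Fi22Recog95.Mod

open Cfsg.Agent.Lib.U62Cent47 Cfsg.Agent.Lib.U62Recog47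

/-- a code from its six bits and its plane part -/
def joinC (y u : Nat) : Nat := y ^^^ (u <<< 6)

theorem joinC_ok : ∀ y < 64, ∀ u < 4, joinC y u < 256 ∧ joinC y u &&& 63 = y ∧ joinC y u >>> 6 = u ∧
    joinC y u &&& 192 = joinC 0 u ∧ joinC y 0 = y := by decide +kernel

theorem joinC_split : ∀ n < 256, n &&& 63 < 64 ∧ n >>> 6 < 4 ∧ joinC (n &&& 63) (n >>> 6) = n ∧
    n &&& 192 = joinC 0 (n >>> 6) := by decide +kernel

theorem joinC_xor (y y' u : Nat) : joinC y u ^^^ y' = joinC (y ^^^ y') u := by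
  simp [joinC, Nat.xor_assoc, Nat.xor_comm y']

theorem joinC_qB : ∀ m < 2, ∀ y < 64, ∀ u < 4, qB m (joinC y u) = (qB 0 y ^^ qU m u) ∧
    qB m y = qB 0 y ∧ qB m (joinC 0 u) = qU m u := by decide +kernel

theorem joinC_inj {y y' u u' : Nat} (hy : y < 64) (hy' : y' < 64) (hu : u < 4) (hu' : u' < 4)
    (e : joinC y u = joinC y' u') : y = y' ∧ u = u' :=
  ⟨(joinC_ok y hy u hu).2.1.symm.trans (e ▸ (joinC_ok y' hy' u' hu').2.1),
    (joinC_ok y hy u hu).2.2.1.symm.trans (e ▸ (joinC_ok y' hy' u' hu').2.2.1)⟩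

theorem six_lt (w : List Nat) {y : Nat} (hy : y < 64) : wM 0 w y < 64 := by
  induction w with
  | nil => exact hy
  | cons x w ih =>
    show aM 0 x (wM 0 w y) < 64
    have hh : wM 0 w y &&& 192 = 0 := by
      have hok : ∀ y < 64, y &&& 192 = 0 := by decide +kernel
      exact hok _ ih
    rw [aM, show (0 == 2) = false from rfl, cond_false, hh, Nat.or_zero]
    exact tS_lt _ _

theorem wM_join {m : Nat} (hm : m < 2) (w : List Nat) {y u : Nat} (hy : y < 64) (hu : u < 4) :
    wM m w (joinC y u) = joinC (wM 0 w y) u := by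
  induction w with
  | nil => rfl
  | cons x w ih =>
    have hb := six_lt w hy
    show aM m x (wM m w (joinC y u)) = joinC (aM 0 x (wM 0 w y)) u
    have hne : (m == 2) = false := beq_eq_false_iff_ne.2 (by omega)
    have hh : wM 0 w y &&& 192 = 0 := by
      have hok : ∀ y < 64, y &&& 192 = 0 := by decide +kernel
      exact hok _ hb
    have hl : wM 0 w y &&& 63 = wM 0 w y := by
      have h1 := (joinC_ok _ hb 0 (by norm_num)).2.1
      rwa [(joinC_ok _ hb 0 (by norm_num)).2.2.2.2] at h1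
    rw [ih, aM, aM, hne, show (0 == 2) = false from rfl]
    simp only [cond_false]
    rw [hh, Nat.or_zero, hl, (joinC_ok _ hb u hu).2.1, (joinC_ok _ hb u hu).2.2.2.1,
      show joinC 0 u = u <<< 6 by simp [joinC]]
    have : joinC 0 u &&& 192 = joinC 0 u := (joinC_ok 0 (by norm_num) u hu).2.2.2.1
    rw [show joinC 0 u = u <<< 6 by simp [joinC]] at this
    rw [joinC, ← this, or_high (tS_lt _ _)]

theorem wM_six {m : Nat} (hm : m < 2) (w : List Nat) {n : Nat} (hn : n < 256) : wM m w n = wM 0 w n := by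
  obtain ⟨h1, h2, h3, -⟩ := joinC_split n hn
  rw [← h3, wM_join hm w h1 h2, wM_join (by norm_num) w h1 h2]

theorem oM_join {m : Nat} (hm : m < 2) (s w : List Nat) {y u : Nat} (hy : y < 64) (hu : u < 4) :
    oM m s w (joinC y u) = joinC (o6 w y) (s.getD u 0) := by
  rw [oM, o6, wM_join hm w hy hu, (joinC_ok _ (six_lt w hy) u hu).2.1, (joinC_ok y hy u hu).2.2.1]
  rfl

theorem six_span {P : Nat → Prop} (h0 : P 0) (hb : ∀ j < 6, P (2 ^ j))
    (hx : ∀ x y, x < 64 → y < 64 → P x → P y → P (x ^^^ y)) {y : Nat} (hy : y < 64) : P y := by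
  have key : ∀ l : List Nat,
      l.foldr (fun j r => (bif y.testBit j then 2 ^ j else 0) ^^^ r) 0 < 64 ∧
      P (l.foldr (fun j r => (bif y.testBit j then 2 ^ j else 0) ^^^ r) 0) := by
    intro l
    induction l with
    | nil => exact ⟨by norm_num, h0⟩
    | cons j l ih =>
      rw [List.foldr_cons]
      cases e : y.testBit j
      · simpa using ih
      · have hj : j < 6 := by
          by_contra hj
          rw [Nat.testBit_lt_two_pow (lt_of_lt_of_le hy (Nat.pow_le_pow_right (show 0 < 2 by norm_num)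
            (show 6 ≤ j by omega)))] at e
          cases e
        have hp : 2 ^ j < 64 := lt_of_lt_of_le (Nat.pow_lt_pow_right (by norm_num) hj) (by norm_num)
        exact ⟨Nat.xor_lt_two_pow (n := 6) hp ih.1, hx _ _ hp ih.1 (hb j hj) ih.2⟩
  have h := (key (List.range 8)).2
  rwa [show (List.range 8).foldr (fun j r => (bif y.testBit j then 2 ^ j else 0) ^^^ r) 0 = y from
    beq_iff_eq.1 (List.all_eq_true.1 bits_ok y (List.mem_range.2 (by omega)))] at h

/-- additive on the six bits -/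
def Add6 (F : Nat → Nat) : Prop :=
  (∀ y < 64, F y < 64) ∧ ∀ x y, x < 64 → y < 64 → F (x ^^^ y) = F x ^^^ F y

theorem ext6 {F F' : Nat → Nat} (h : Add6 F) (h' : Add6 F') (e : ∀ j < 6, F (2 ^ j) = F' (2 ^ j))
    {y : Nat} (hy : y < 64) : F y = F' y := by
  have z : ∀ {F}, Add6 F → F 0 = 0 := fun {F} hF => by
    have := hF.2 0 0 (by norm_num) (by norm_num)
    rwa [Nat.xor_self, Nat.xor_self] at this
  exact six_span (P := fun y => F y = F' y) (by rw [z h, z h']) e
    (fun x y hx hy ex ey => by rw [h.2 x y hx hy, h'.2 x y hx hy, ex, ey]) hy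

theorem add6_wM (w : List Nat) : Add6 (wM 0 w) :=
  ⟨fun _ hy => six_lt w hy, fun _ _ hx hy => wM_xor 0 w (by omega) (by omega)⟩

theorem rAct_facts : ∀ y < 64, rAct y < 64 ∧ rAct (rAct y) = y ∧ qB 0 (rAct y) = qB 0 y := by
  decide +kernel

theorem rAct_xor_ok : (List.range 64).all (fun x => (List.range 64).all fun y =>
    rAct (x ^^^ y) == rAct x ^^^ rAct y) = true := by decide +kernel

theorem add6_rAct : Add6 rAct :=
  ⟨fun y hy => (rAct_facts y hy).1, fun x y hx hy => beq_iff_eq.1 (List.all_eq_true.1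
    (List.all_eq_true.1 rAct_xor_ok x (List.mem_range.2 hx)) y (List.mem_range.2 hy))⟩

theorem add6_comp {F F' : Nat → Nat} (h : Add6 F) (h' : Add6 F') : Add6 fun y => F (F' y) :=
  ⟨fun y hy => h.1 _ (h'.1 y hy), fun x y hx hy => by
    show F (F' _) = F (F' x) ^^^ F (F' y)
    rw [h'.2 x y hx hy, h.2 _ _ (h'.1 x hx) (h'.1 y hy)]⟩

theorem add6_o6 (w : List Nat) : Add6 (o6 w) :=
  (add6_comp add6_rAct (add6_wM w) : Add6 fun y => rAct (wM 0 w y))

theorem tv_six_ok : ptsL.all (fun x => (List.range 64).all fun y =>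
    wM 0 [x, x] y == y && qB 0 (wM 0 [x] y) == qB 0 y) = true := by decide +kernel

theorem qB_wM {w : List Nat} (hw : ∀ x ∈ w, x ∈ ptsL) {y : Nat} (hy : y < 64) :
    qB 0 (wM 0 w y) = qB 0 y := by
  induction w with
  | nil => rfl
  | cons x w ih =>
    have h := List.all_eq_true.1 (List.all_eq_true.1 tv_six_ok x (hw x List.mem_cons_self)) (wM 0 w y)
      (List.mem_range.2 (six_lt w hy))
    simp only [Bool.and_eq_true, beq_iff_eq] at h
    exact h.2.trans (ih fun b hb => hw b (List.mem_cons_of_mem _ hb))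

theorem wM_rev {w : List Nat} (hw : ∀ x ∈ w, x ∈ ptsL) {y : Nat} (hy : y < 64) :
    wM 0 w (wM 0 w.reverse y) = y ∧ wM 0 w.reverse (wM 0 w y) = y := by
  induction w generalizing y with
  | nil => exact ⟨rfl, rfl⟩
  | cons x w ih =>
    have hx : ∀ {y}, y < 64 → wM 0 [x] (wM 0 [x] y) = y := fun {y} hy => by
      have h := List.all_eq_true.1 (List.all_eq_true.1 tv_six_ok x (hw x List.mem_cons_self)) y
        (List.mem_range.2 hy)
      simp only [Bool.and_eq_true, beq_iff_eq] at h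
      rw [← wM_append]; exact h.1
    have hw' : ∀ b ∈ w, b ∈ ptsL := fun b hb => hw b (List.mem_cons_of_mem _ hb)
    rw [List.reverse_cons, show x :: w = [x] ++ w from rfl, wM_append, wM_append, wM_append, wM_append]
    constructor
    · rw [(ih hw' (six_lt [x] hy)).1, hx hy]
    · rw [hx (six_lt w hy), (ih hw' hy).2]

/-- moving the reflection across a word -/
theorem refl_word {w : List Nat} (hw : ∀ x ∈ w, x ∈ ptsL) :
    ∃ v, (∀ x ∈ v, x ∈ ptsL) ∧ ∀ y < 64, rAct (wM 0 w (rAct y)) = wM 0 v y := by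
  induction w with
  | nil => exact ⟨[], by simp, fun y hy => (rAct_facts y hy).2.1⟩
  | cons x w ih =>
    obtain ⟨v, hv, ev⟩ := ih fun b hb => hw b (List.mem_cons_of_mem _ hb)
    have h := List.all_eq_true.1 sixRefl_ok x (hw x List.mem_cons_self)
    simp only [List.any_eq_true, List.all_eq_true, List.mem_range, beq_iff_eq] at h
    obtain ⟨b, hb, eb⟩ := h
    refine ⟨b :: v, by simpa [hb] using hv, fun y hy => ?_⟩
    have e1 : ∀ y < 64, rAct (wM 0 [x] (rAct y)) = wM 0 [b] y := fun y hy =>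
      ext6 (add6_comp add6_rAct (add6_comp (add6_wM [x]) add6_rAct)) (add6_wM [b]) eb hy
    have hr := (rAct_facts y hy).1
    rw [show x :: w = [x] ++ w from rfl, show b :: v = [b] ++ v from rfl, wM_append, wM_append,
      ← (rAct_facts _ (six_lt w hr)).2.1, ev y hy, e1 _ (six_lt v hy)]

/-- a word, then possibly the reflection -/
def act6 (b : Bool) (w : List Nat) (y : Nat) : Nat := bif b then rAct (wM 0 w y) else wM 0 w y

theorem act6_comp {b c : Bool} {v w : List Nat} (hv : ∀ x ∈ v, x ∈ ptsL) (hw : ∀ x ∈ w, x ∈ ptsL) :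
    ∃ d u, (∀ x ∈ u, x ∈ ptsL) ∧ ∀ y < 64, act6 b v (act6 c w y) = act6 d u y := by
  obtain ⟨v', hv', e⟩ := refl_word hv
  cases c
  · exact ⟨b, v ++ w, fun x hx => (List.mem_append.1 hx).elim (hv x) (hw x),
      fun y _ => by simp [act6, wM_append]⟩
  · refine ⟨!b, v' ++ w, fun x hx => (List.mem_append.1 hx).elim (hv' x) (hw x), fun y hy => ?_⟩
    have hy' := six_lt w hy
    have h1 := e _ hy'
    have h2 : wM 0 v (rAct (wM 0 w y)) = rAct (wM 0 v' (wM 0 w y)) := by
      rw [← h1, (rAct_facts _ (six_lt v (rAct_facts _ hy').1)).2.1]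
    cases b
    · simp [act6, wM_append, h2]
    · simp [act6, wM_append, h2, (rAct_facts _ (six_lt v' hy')).2.1]

theorem add6_act6 (b : Bool) (w : List Nat) : Add6 (act6 b w) := by
  cases b
  · exact add6_wM w
  · exact add6_o6 w

/-- every isometry of the six bits is a word or a word and the reflection -/
theorem exists_act6 {F : Nat → Nat} (hF : Add6 F) (hq : ∀ y < 64, qB 0 (F y) = qB 0 y)
    (hi : ∀ y < 64, F y = 0 → y = 0) :
    ∃ b w, (∀ x ∈ w, x ∈ ptsL) ∧ ∀ y < 64, F y = act6 b w y := by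
  suffices key : ∀ k ≤ 6, ∀ F : Nat → Nat, Add6 F → (∀ y < 64, qB 0 (F y) = qB 0 y) →
      (∀ y < 64, F y = 0 → y = 0) → (∀ j < 6 - k, F (2 ^ j) = 2 ^ j) →
      ∃ b w, (∀ x ∈ w, x ∈ ptsL) ∧ ∀ y < 64, F y = act6 b w y from
    key 6 le_rfl F hF hq hi fun j hj => absurd hj (by omega)
  intro k
  induction k with
  | zero =>
    intro _ F hF _ _ hfix
    exact ⟨false, [], by simp, fun y hy =>
      ext6 hF (add6_act6 _ _) (fun j hj => (hfix j (by omega)).trans rfl) hy⟩
  | succ k ih =>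
    intro hk F hF hq hi hfix
    obtain ⟨i, rfl⟩ : ∃ i, 6 - (k + 1) = i := ⟨_, rfl⟩
    set i := 6 - (k + 1) with hi'
    have hi6 : i < 6 := by omega
    have hp : ∀ j < 6, 2 ^ j < 64 := fun j hj =>
      lt_of_lt_of_le (Nat.pow_lt_pow_right (by norm_num) hj) (by norm_num)
    have hy := hF.1 _ (hp i hi6)
    have hc := List.all_eq_true.1 (List.all_eq_true.1 desc_cover i (List.mem_range.2 hi6)) _
      (List.mem_range.2 hy)
    have hy0 : (F (2 ^ i) == 0) = false :=
      beq_eq_false_iff_ne.2 fun e => absurd (hi _ (hp i hi6) e) (by simp)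
    have hb : (List.range i).all (fun j => bB 0 (F (2 ^ i)) (2 ^ j) == bB 0 (2 ^ i) (2 ^ j)) = true :=
      List.all_eq_true.2 fun j hj => by
        rw [List.mem_range] at hj
        have hj6 : j < 6 := by omega
        rw [beq_iff_eq, bB, bB, hq _ (hp i hi6)]
        conv_lhs => rw [← hfix j hj, ← hF.2 _ _ (hp i hi6) (hp j hj6),
          hq _ (Nat.xor_lt_two_pow (n := 6) (hp i hi6) (hp j hj6)), hq _ (hp j hj6)]
    simp only [hy0, hq _ (hp i hi6), beq_self_eq_true, Bool.not_true, Bool.false_or, hb,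
      List.any_eq_true, beq_iff_eq] at hc
    obtain ⟨e, he, hey⟩ := hc
    have hok := List.all_eq_true.1 (List.all_eq_true.1 desc_ok i (List.mem_range.2 hi6)) e he
    simp only [Bool.and_eq_true, List.all_eq_true, List.contains_iff_mem, List.mem_range, beq_iff_eq] at hok
    obtain ⟨⟨hpts, hefix⟩, heimg⟩ := hok
    have hE : ∀ y, (bif e.2.1 then rAct (wM 0 e.2.2 y) else wM 0 e.2.2 y) = act6 e.2.1 e.2.2 y :=
      fun y => rfl
    simp only [hE] at hefix heimg
    have hrev : ∀ x ∈ e.2.2.reverse, x ∈ ptsL := fun x hx => hpts x (List.mem_reverse.1 hx)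
    set r : Nat → Nat := fun y => bif e.2.1 then rAct y else y with hr
    have hr6 : Add6 r := by
      rw [hr]; cases e.2.1
      · exact ⟨fun _ hy => hy, fun _ _ _ _ => rfl⟩
      · exact add6_rAct
    have hrr : ∀ y < 64, qB 0 (r y) = qB 0 y ∧ (r y = 0 → y = 0) := fun y hy => by
      rw [hr]; cases e.2.1
      · exact ⟨rfl, id⟩
      · refine ⟨(rAct_facts y hy).2.2, fun h0 => ?_⟩
        have := (rAct_facts y hy).2.1
        simp only [cond_true] at h0
        rw [h0] at this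
        exact this.symm.trans (by decide +kernel)
    set F' : Nat → Nat := fun y => wM 0 e.2.2.reverse (r (F y)) with hF'def
    have hF' : Add6 F' := add6_comp (add6_wM _) (add6_comp hr6 hF)
    have hback : ∀ y < 64, act6 e.2.1 e.2.2 (F' y) = F y := fun y hy => by
      have h1 := (wM_rev hpts (hr6.1 _ (hF.1 y hy))).1
      rw [hF'def]; simp only [act6, h1]
      cases hb' : e.2.1
      · simp [hr, hb']
      · simpa [hr, hb'] using (rAct_facts _ (hF.1 y hy)).2.1
    obtain ⟨b, w, hw, ew⟩ := ih (by omega) F' hF'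
      (fun y hy => by
        show qB 0 (wM 0 _ (r (F y))) = _
        rw [qB_wM hrev (hr6.1 _ (hF.1 y hy)), (hrr _ (hF.1 y hy)).1, hq y hy])
      (fun y hy h0 => by
        have := hback y hy
        rw [h0] at this
        refine hi y hy (this.symm.trans ?_)
        have h00 := (add6_act6 e.2.1 e.2.2).2 0 0 (by norm_num) (by norm_num)
        rwa [Nat.xor_self, Nat.xor_self] at h00)
      (fun j hj => by
        have hj' : j ≤ i := by omega
        have hj6 : j < 6 := by omega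
        have e1 : act6 e.2.1 e.2.2 (2 ^ j) = F (2 ^ j) := by
          rcases Nat.lt_or_eq_of_le hj' with h | rfl
          · rw [hefix j h, hfix j h]
          · rw [heimg, hey]
        show wM 0 e.2.2.reverse (r (F (2 ^ j))) = 2 ^ j
        rw [← e1, hr]
        simp only [act6]
        cases e.2.1
        · exact (wM_rev hpts (hp j hj6)).2
        · simp only [cond_true]
          rw [(rAct_facts _ (six_lt _ (hp j hj6))).2.1, (wM_rev hpts (hp j hj6)).2])
    obtain ⟨d, u, hu, eu⟩ := act6_comp (b := e.2.1) (c := b) hpts hw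
    exact ⟨d, u, hu, fun y hy => by rw [← hback y hy, ew y hy, eu y hy]⟩

theorem sig_finish (m : Nat) (hm : m < 2) (p : Nat) (hp : p < 4) (q : Nat) (hq : q < 4)
    (h : ∀ u < 4, [0, p, q, p ^^^ q].getD ([0, p, q, p ^^^ q].getD u 0) 0 = u ∧
      qU m ([0, p, q, p ^^^ q].getD u 0) = qU m u) : [0, p, q, p ^^^ q] ∈ sigL m := by
  have hok : (List.range 2).all (fun m => (List.range 4).all fun p => (List.range 4).all fun q =>
      !((List.range 4).all fun u => [0, p, q, p ^^^ q].getD ([0, p, q, p ^^^ q].getD u 0) 0 == u &&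
        qU m ([0, p, q, p ^^^ q].getD u 0) == qU m u) || (sigL m).contains [0, p, q, p ^^^ q]) = true := by
    decide +kernel
  have h1 := List.all_eq_true.1 (List.all_eq_true.1 (List.all_eq_true.1 hok m (List.mem_range.2 hm)) p
    (List.mem_range.2 hp)) q (List.mem_range.2 hq)
  simp only [Bool.or_eq_true, Bool.not_eq_true', List.contains_iff_mem] at h1
  refine h1.resolve_left ?_
  rw [Bool.not_eq_false, List.all_eq_true]
  intro u hu
  simp only [Bool.and_eq_true, beq_iff_eq]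
  exact h u (List.mem_range.1 hu)

theorem sigL_ok : ∀ m < 2, ∀ s ∈ sigL m, ∀ u < 4, s.getD u 0 < 4 ∧ s.getD (s.getD u 0) 0 = u := by
  decide +kernel

theorem cFix2_split {m : Nat} (hm : m < 2) (s t x : List Nat) (hs : s ∈ sigL m) :
    cFix2 (oM m s t) (wM m x) =
      c6Fix2 (o6 t) (wM 0 x) * ((List.range 4).filter fun u => s.getD u 0 == u).length := by
  have hp : ∀ y < 64, ∀ u < 4, (oM m s t (joinC y u) == joinC y u && wM m x (joinC y u) == joinC y u) =
      ((o6 t y == y && wM 0 x y == y) && (s.getD u 0 == u)) := fun y hy u hu => by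
    rw [oM_join hm s t hy hu, wM_join hm x hy hu, Bool.eq_iff_iff]
    simp only [Bool.and_eq_true, beq_iff_eq]
    constructor
    · rintro ⟨h1, h2⟩
      obtain ⟨a1, a2⟩ := joinC_inj ((add6_o6 t).1 y hy) hy (sigL_ok m hm s hs u hu).1 hu h1
      exact ⟨⟨a1, (joinC_inj (six_lt x hy) hy hu hu h2).1⟩, a2⟩
    · rintro ⟨⟨a1, a2⟩, a3⟩
      rw [a1, a2, a3]; exact ⟨rfl, rfl⟩
  rw [cFix2, c6Fix2, codes_256]
  have hu : ∀ u < 4, (((List.range 64).map fun y => y ^^^ (u <<< 6)).filter
      fun n => oM m s t n == n && wM m x n == n).length =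
      if s.getD u 0 == u then ((List.range 64).filter fun y => o6 t y == y && wM 0 x y == y).length else 0 := by
    intro u hu
    rw [List.filter_map, List.length_map]
    cases e : s.getD u 0 == u
    · rw [if_neg (by simp), List.length_eq_zero_iff, List.filter_eq_nil_iff]
      intro y hy
      rw [Function.comp_apply, ← joinC, hp y (List.mem_range.1 hy) u hu, e, Bool.and_false]
      simp
    · rw [if_pos rfl]
      refine congrArg List.length (List.filter_congr fun y hy => ?_)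
      rw [Function.comp_apply, ← joinC, hp y (List.mem_range.1 hy) u hu, e, Bool.and_true]
  rw [show List.range 4 = [0, 1, 2, 3] from rfl]
  simp only [List.flatMap_cons, List.flatMap_nil, List.append_nil, List.filter_append, List.length_append,
    hu 0 (by norm_num), hu 1 (by norm_num), hu 2 (by norm_num), hu 3 (by norm_num)]
  simp only [List.filter_cons, List.filter_nil]
  cases s.getD 0 0 == 0 <;> cases s.getD 1 0 == 1 <;> cases s.getD 2 0 == 2 <;> cases s.getD 3 0 == 3 <;>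
    simp <;> omega

universe u

variable {G : Type u} [Group G] {z a : G} {J H1 : Subgroup G}

namespace Frame

variable (T : Frame z a J H1) (S : Hyp z a J) (hm : T.m < 2)

theorem acts_join {g : G} {f f' : Nat → Nat} (h : Acts T g f)
    (e : ∀ y < 64, ∀ u < 4, f (joinC y u) = f' (joinC y u)) : Acts T g f' :=
  T.acts_congr h fun n hn => by
    obtain ⟨h1, h2, h3, -⟩ := joinC_split n hn
    rw [← h3, e _ h1 _ h2]

include T S hm

/-- the shape of the action of any element of `C(z)` -/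
theorem exists_blocks {g : G} (hg : g ∈ cz z) :
    ∃ f F, ∃ s : Nat → Nat, Acts T g f ∧ Add6 F ∧ (∀ y < 64, qB 0 (F y) = qB 0 y) ∧
      (∀ y < 64, F y = 0 → y = 0) ∧ (∀ u < 4, s u < 4 ∧ qU T.m (s u) = qU T.m u) ∧
      s 0 = 0 ∧ s 3 = s 1 ^^^ s 2 ∧
      ∀ y < 64, ∀ u < 4, f (joinC y u) = joinC (F y) (s u) := by
  obtain ⟨f, hf⟩ := T.exists_map S hg
  obtain ⟨f', hf'⟩ := T.exists_map S (inv_mem hg)
  have hlt : ∀ n < 256, f n < 256 := fun n hn => T.acts_lt S hg hf hn
  have hlt' : ∀ n < 256, f' n < 256 := fun n hn => T.acts_lt S (inv_mem hg) hf' hn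
  have hadd : ∀ x y, x < 256 → y < 256 → f (x ^^^ y) = f x ^^^ f y := fun x y hx hy =>
    T.acts_xor S hg hf hx hy
  have hff : ∀ n < 256, f (f' n) = n := by
    refine T.acts_unique (T.acts_mul S (inv_mem hg) hf hf') ?_
    rw [mul_inv_cancel]; exact T.acts_J S (one_mem _)
  have hff' : ∀ n < 256, f' (f n) = n := by
    refine T.acts_unique (T.acts_mul S hg hf' hf) ?_
    rw [inv_mul_cancel]; exact T.acts_J S (one_mem _)
  -- the six bits are kept
  have hlow : ∀ y < 64, f y < 64 := by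
    intro y hy
    refine (six_span (P := fun y => f y < 64 ∧ y < 256) ⟨?_, by norm_num⟩ ?_ ?_ hy).1
    · rw [T.acts_zero S hg hf]; norm_num
    · intro j hj
      have h := List.all_eq_true.1 sixMove_ok j (List.mem_range.2 hj)
      simp only [List.any_eq_true, List.contains_iff_mem, List.mem_eraseDups] at h
      obtain ⟨x, hx, hy'⟩ := h
      have hmove : ∀ x ∈ (ptsL.flatMap fun a => (List.range 64).map fun k => wM 0 [a] k ^^^ k),
          x < 256 ∧ f x < 64 := by
        intro x hx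
        obtain ⟨b, hb, hx⟩ := List.mem_flatMap.1 hx
        obtain ⟨k, hk, rfl⟩ := List.mem_map.1 hx
        rw [List.mem_range] at hk
        have hk' : k < 256 := by omega
        obtain ⟨v, hv, hfv⟩ := T.map_word S hg hf (w := [b]) (by simpa using hb)
        refine ⟨xor_lt8 (wM_lt _ _ hk') hk', ?_⟩
        rw [hadd _ _ (wM_lt _ _ hk') hk', ← wM_six hm [b] hk', hfv k hk']
        obtain ⟨h1, h2, h3, -⟩ := joinC_split _ (hlt k hk')
        rw [← h3, wM_join hm v h1 h2, show joinC (wM 0 v (f k &&& 63)) (f k >>> 6) ^^^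
          joinC (f k &&& 63) (f k >>> 6) = wM 0 v (f k &&& 63) ^^^ (f k &&& 63) by
            rw [joinC, joinC, xor_swap4, Nat.xor_self, Nat.xor_zero]]
        exact Nat.xor_lt_two_pow (n := 6) (six_lt v h1) h1
      refine ⟨?_, pow_lt (by omega)⟩
      rw [show 2 ^ j = x ^^^ (2 ^ j ^^^ x) by
        rw [Nat.xor_comm (2 ^ j), ← Nat.xor_assoc, Nat.xor_self, Nat.zero_xor],
        hadd _ _ (hmove x hx).1 (hmove _ hy').1]
      exact Nat.xor_lt_two_pow (n := 6) (hmove x hx).2 (hmove _ hy').2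
    · rintro x y hx hy ⟨h1, h1'⟩ ⟨h2, h2'⟩
      exact ⟨by rw [hadd _ _ h1' h2']; exact Nat.xor_lt_two_pow (n := 6) h1 h2, xor_lt8 h1' h2'⟩
  -- the plane is kept
  have hhigh : ∀ u < 4, f (joinC 0 u) = joinC 0 (f (joinC 0 u) >>> 6) ∧ f (joinC 0 u) >>> 6 < 4 := by
    intro u hu
    have hn := (joinC_ok 0 (by norm_num) u hu).1
    obtain ⟨h1, h2, h3, -⟩ := joinC_split _ (hlt _ hn)
    refine ⟨?_, h2⟩
    have hfix : (U62Cent47.genL.all fun x => wM 0 [x] (f (joinC 0 u)) == f (joinC 0 u)) = true := by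
      refine List.all_eq_true.2 fun x hx => beq_iff_eq.2 ?_
      rw [← wM_six hm [x] (hlt _ hn)]
      obtain ⟨v, hv, hfv⟩ := T.map_word S (inv_mem hg) hf' (w := [x]) (by simpa using gen_pts x hx)
      have e := hfv _ (hlt _ hn)
      have hz : wM 0 v 0 = 0 := wM_zero 0 v
      rw [hff' _ hn, wM_join hm v (by norm_num) hu, hz] at e
      have := hff _ (wM_lt T.m [x] (hlt _ hn))
      rw [e] at this
      exact this.symm
    have h := List.all_eq_true.1 sixFixed_ok _ (List.mem_range.2 (hlt _ hn))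
    rw [hfix] at h
    simp only [beq_iff_eq, Bool.true_eq, beq_iff_eq] at h
    conv_lhs => rw [← h3, h]
  have hs0 : f (joinC 0 0) >>> 6 = 0 := by
    rw [show joinC 0 0 = 0 from rfl, T.acts_zero S hg hf]; rfl
  refine ⟨f, f, fun u => f (joinC 0 u) >>> 6, hf, ⟨hlow, fun x y hx hy => hadd x y (by omega) (by omega)⟩,
    ?_, ?_, ?_, hs0, ?_, ?_⟩
  · intro y hy
    have := T.acts_q S hg hf (n := y) (by omega)
    rwa [(joinC_qB T.m hm _ (hlow y hy) 0 (by norm_num)).2.1, (joinC_qB T.m hm y hy 0 (by norm_num)).2.1]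
      at this
  · intro y hy h0
    have := hff' y (by omega)
    rw [h0, T.acts_zero S (inv_mem hg) hf'] at this
    exact this.symm
  · intro u hu
    refine ⟨(hhigh u hu).2, ?_⟩
    have := T.acts_q S hg hf (joinC_ok 0 (by norm_num) u hu).1
    rwa [(hhigh u hu).1, (joinC_qB T.m hm 0 (by norm_num) _ (hhigh u hu).2).2.2,
      (joinC_qB T.m hm 0 (by norm_num) u hu).2.2] at this
  · show f (joinC 0 3) >>> 6 = f (joinC 0 1) >>> 6 ^^^ f (joinC 0 2) >>> 6
    rw [show joinC 0 3 = joinC 0 1 ^^^ joinC 0 2 from rfl, hadd _ _ (joinC_ok 0 (by norm_num) 1 (by norm_num)).1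
      (joinC_ok 0 (by norm_num) 2 (by norm_num)).1, Nat.shiftRight_xor_distrib]
  · intro y hy u hu
    rw [show joinC y u = y ^^^ joinC 0 u by simp [joinC], hadd _ _ (by omega) (joinC_ok 0 (by norm_num) u hu).1,
      (hhigh u hu).1]
    simp [joinC]

/-- an element outside `H1` as a word, the reflection and an involution of the plane -/
theorem outer_word (hcent : ∀ g ∈ cz z, (∀ h ∈ H1, CommMod J g h) → g ∈ J) {g : G} (hg : g ∈ cza z a)
    (hg1 : g ∉ H1) :
    ∃ s ∈ sigL T.m, ∃ w, (∀ x ∈ w, x ∈ ptsL) ∧ Acts T g (oM T.m s w) := by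
  obtain ⟨f, F, s, hf, hF, hq, hi, hs, hs0, hs3, hjoin⟩ := T.exists_blocks S hm hg.1
  obtain ⟨b, w, hw, ew⟩ := exists_act6 hF hq hi
  have hss : ∀ u < 4, s (s u) = u := by
    intro u hu
    obtain ⟨v, hv, -, hav⟩ := T.exists_acts (T.inner.prod g hg.1 g hg.1 hg1 hg1)
    have h := T.acts_unique (T.acts_mul S hg.1 hf hf) hav _ (joinC_ok 0 (by norm_num) u hu).1
    have h0 : F 0 = 0 := by
      have := hF.2 0 0 (by norm_num) (by norm_num)
      rwa [Nat.xor_self, Nat.xor_self] at this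
    rw [hjoin 0 (by norm_num) u hu, h0, hjoin 0 (by norm_num) _ (hs u hu).1, h0,
      wM_join hm v (by norm_num) hu, wM_zero] at h
    exact (joinC_inj (by norm_num) (by norm_num) (hs _ (hs u hu).1).1 hu h).2
  set L : List Nat := [0, s 1, s 2, s 1 ^^^ s 2] with hLdef
  have hL : ∀ u < 4, L.getD u 0 = s u := by
    intro u hu
    interval_cases u <;> simp [hLdef, hs0, hs3]
  have hmem : L ∈ sigL T.m := sig_finish T.m hm _ (hs 1 (by norm_num)).1 _ (hs 2 (by norm_num)).1
    fun u hu => ⟨by rw [← hLdef, hL u hu, hL _ (hs u hu).1, hss u hu], by rw [← hLdef, hL u hu, (hs u hu).2]⟩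
  cases b
  · exfalso
    have hrev : ∀ x ∈ w.reverse, x ∈ ptsL := fun x hx => hw x (List.mem_reverse.1 hx)
    obtain ⟨k, hk, -, hak⟩ := T.exists_lift hrev
    have hg' : k * g ∈ cza z a := mul_mem (T.inner.le hk) hg
    have ha' : Acts T (k * g) fun n => joinC (n &&& 63) (s (n >>> 6)) :=
      T.acts_join (T.acts_mul S hg.1 hak hf) fun y hy u hu => by
        simp only [(joinC_ok y hy u hu).2.1, (joinC_ok y hy u hu).2.2.1]
        rw [hjoin y hy u hu, wM_join hm _ (hF.1 y hy) (hs u hu).1, ew y hy]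
        exact congrArg (joinC · (s u)) (wM_rev hw hy).2
    refine hg1 ?_
    have hJ := hcent _ hg'.1 fun h hh => by
      obtain ⟨v, hv, -, hav⟩ := T.exists_acts hh
      refine (T.commMod_iff S hg' (T.inner.le hh) ha' hav).2 fun n hn => ?_
      obtain ⟨h1, h2, h3, -⟩ := joinC_split n hn
      conv_lhs => rw [← h3]
      rw [wM_join hm v h1 h2, wM_join hm v h1 (hs _ h2).1, (joinC_ok _ (six_lt v h1) _ h2).2.1,
        (joinC_ok _ (six_lt v h1) _ h2).2.2.1]
    simpa using mul_mem (inv_mem hk) (T.inner.ge hJ)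
  · refine ⟨L, hmem, w, hw, T.acts_join hf fun y hy u hu => ?_⟩
    rw [hjoin y hy u hu, oM_join hm L w hy hu, hL u hu, ew y hy]
    rfl

/-- a 2-element outside `H1` is conjugate to one over the coded Sylow subgroup -/
theorem outer_form [Finite G] (hcent : ∀ g ∈ cz z, (∀ h ∈ H1, CommMod J g h) → g ∈ J) {g : G}
    (hg : g ∈ cza z a) (hg1 : g ∉ H1) {e : ℕ} (he : g ^ 2 ^ e ∈ J) :
    ∃ k ∈ cza z a, ∃ s ∈ sigL T.m, ∃ t ∈ sylL, Acts T (k * g * k⁻¹) (oM T.m s t) := by
  haveI : Fact (Nat.Prime 2) := ⟨Nat.prime_two⟩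
  obtain ⟨s, hs, w, hw, hag⟩ := T.outer_word S hm hcent hg hg1
  have hrev : ∀ x ∈ w.reverse, x ∈ ptsL := fun x hx => hw x (List.mem_reverse.1 hx)
  obtain ⟨l, hl, -, hal⟩ := T.exists_lift hrev
  set d := g * l with hd
  have hdc : d ∈ cza z a := mul_mem hg (T.inner.le hl)
  have hd1 : d ∉ H1 := fun h => hg1 (by simpa [hd] using mul_mem h (inv_mem hl))
  have had : Acts T d (oM T.m s []) :=
    T.acts_join (T.acts_mul S (T.h1_cz hl) hag hal) fun y hy u hu => by
      rw [wM_join hm _ hy hu, oM_join hm s w (six_lt _ hy) hu, oM_join hm s [] hy hu, o6, o6,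
        (wM_rev hw hy).1]
      rfl
  have hdd : d * d ∈ J := (T.inv2_congr S hdc had).2 fun n hn => by
    obtain ⟨h1, h2, h3, -⟩ := joinC_split n hn
    obtain ⟨hb, hb'⟩ := sigL_ok T.m hm s hs _ h2
    conv_lhs => rw [← h3, oM_join hm s [] h1 h2, oM_join hm s [] ((add6_o6 []).1 _ h1) hb, hb']
    rw [show o6 [] (o6 [] (n &&& 63)) = n &&& 63 from (rAct_facts _ h1).2.1, h3]
  set T1 : Subgroup G := (sylP.comap T.φ).map H1.subtype with hT1
  have hT1le : T1 ≤ H1 := Subgroup.map_subtype_le _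
  have hmem1 : ∀ {x : G} (hx : x ∈ H1), x ∈ T1 ↔ T.φ ⟨x, hx⟩ ∈ sylP := fun {x} hx => by
    rw [hT1]
    exact Subgroup.mem_map_iff_mem (x := ⟨x, hx⟩) H1.subtype_injective
  have hJT1 : J ≤ T1 := fun j hj =>
    (hmem1 (T.inner.ge hj)).2 (by rw [(T.φ_ker _).2 hj]; exact one_mem _)
  have hT1card : Nat.card T1 = 2 ^ 16 := by
    have h := (sylP.comap T.φ).card_mul_index
    have h' := sylP.card_mul_index
    rw [Subgroup.index_comap_of_surjective _ T.φ_surj, T.inner.card] at h
    rw [card_sylP, card_SU4] at h'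
    have hidx : sylP.index = 405 := by omega
    rw [hidx] at h
    rw [hT1, Subgroup.card_map_of_injective H1.subtype_injective]
    omega
  have hconj : ∀ x ∈ T1, d * x * d⁻¹ ∈ T1 := by
    intro x hx
    obtain ⟨v, hv, ev⟩ := sylP_mem ((hmem1 (hT1le hx)).1 hx)
    obtain ⟨i, hi, rfl⟩ := List.mem_iff_getElem.1 hv
    have hi64 : i < 64 := sylL_nodup_ok.2 ▸ hi
    have hok := List.all_eq_true.1 sixOuterTab_ok i (List.mem_range.2 hi64)
    simp only [Bool.and_eq_true, decide_eq_true_eq, List.all_eq_true, List.mem_range, beq_iff_eq,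
      List.getD_eq_getElem _ _ hi] at hok
    have hlt : outTab.getD i 0 < sylL.length := sylL_nodup_ok.2 ▸ hok.1
    set v' := sylL.getD (outTab.getD i 0) [] with hv'
    have hv'm : v' ∈ sylL := by rw [hv', List.getD_eq_getElem _ _ hlt]; exact List.getElem_mem _
    obtain ⟨x', hx', ex', hax'⟩ := T.exists_lift (sylL_pts hv'm)
    have hax := T.acts_word (hT1le hx) (sylL_pts hv) ev
    have hy : d * x * d⁻¹ ∈ H1 := T.inner.norm d hdc.1 x (hT1le hx)
    obtain ⟨f, -, -, hf⟩ := T.exists_acts hy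
    have h1 : d * x * d⁻¹ * x'⁻¹ ∈ J := by
      refine T.same_mem S (T.inner.le hy) (T.inner.le hx') hf hax' fun n hn => ?_
      have h2 := T.acts_mul S hdc.1 hf had
      rw [inv_mul_cancel_right] at h2
      have h3 : ∀ n < 256, oM T.m s [] n < 256 := fun n hn => T.acts_lt S hdc.1 had hn
      have h4 := T.acts_unique h2 (T.acts_mul S (T.h1_cz (hT1le hx)) had hax) (oM T.m s [] n) (h3 n hn)
      rw [(T.inv2_congr S hdc had).1 hdd n hn] at h4
      rw [h4]
      obtain ⟨g1, g2, g3, -⟩ := joinC_split n hn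
      obtain ⟨hb, hb'⟩ := sigL_ok T.m hm s hs _ g2
      have g4 := (add6_o6 []).1 _ g1
      rw [← g3, oM_join hm s [] g1 g2, wM_join hm _ g4 hb, oM_join hm s [] (six_lt _ g4) hb, hb',
        wM_join hm _ g1 g2]
      congr 1
      exact ext6 (add6_comp (add6_o6 []) (add6_comp (add6_wM _) (add6_o6 []))) (add6_wM _)
        (fun j hj => hok.2 j hj) g1
    have h2 : x' ∈ T1 := (hmem1 hx').2 (by rw [ex']; exact sylP_lower v' hv'm)
    simpa using mul_mem (hJT1 h1) h2
  have hnorm : Subgroup.zpowers d ≤ Subgroup.normalizer (T1 : Set G) := by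
    rw [Subgroup.zpowers_le, Subgroup.mem_normalizer_iff]
    intro x
    refine ⟨hconj x, fun h => ?_⟩
    have h2 := hconj _ h
    rw [show x = (d * d)⁻¹ * (d * (d * x * d⁻¹) * d⁻¹) * (d * d) by group]
    exact mul_mem (mul_mem (inv_mem (hJT1 hdd)) h2) (hJT1 hdd)
  have hpd : IsPGroup 2 (Subgroup.zpowers d) := by
    have h1 : d ^ 2 ^ 11 = 1 := by
      have := congrArg Subtype.val (pow_card_eq_one' (x := (⟨d * d, hdd⟩ : ↥J)))
      rw [S.card, SubmonoidClass.coe_pow] at this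
      rw [show (2 : ℕ) ^ 11 = 2 * 1024 from rfl, pow_mul, pow_two]
      exact this
    obtain ⟨i, -, hi⟩ := (Nat.dvd_prime_pow Nat.prime_two).1 (orderOf_dvd_of_pow_eq_one h1)
    exact IsPGroup.of_card (n := i) (by rw [Nat.card_zpowers, hi])
  set T2 : Subgroup G := T1 ⊔ Subgroup.zpowers d with hT2
  have hT2p : IsPGroup 2 T2 := (IsPGroup.of_card hT1card).to_sup_of_normal_left' hpd hnorm
  have hT2le : T2 ≤ cz z := sup_le (fun x hx => T.h1_cz (hT1le hx)) (Subgroup.zpowers_le.2 hdc.1)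
  have hdT2 : d ∈ T2 := Subgroup.mem_sup_right (Subgroup.mem_zpowers d)
  obtain ⟨n2, hn2⟩ := IsPGroup.iff_card.1 hT2p
  have hcz : Nat.card (cz z) = 2 ^ 17 * 405 := by
    have h1 : Nat.card (cz z) ≤ 2 * Nat.card H1 :=
      card_le_two_mul fun u hu hu' v hv hv' => T.inner.prod u hu v hv hu' hv'
    have h2 : 2 * Nat.card H1 ≤ Nat.card (cz z) :=
      two_mul_card_le (fun x hx => T.h1_cz hx) fun h => hg1 (h hg.1)
    have h3 := T.inner.card
    omega
  have hn17 : n2 = 17 := by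
    have hge : 2 * Nat.card T1 ≤ Nat.card T2 :=
      two_mul_card_le le_sup_left fun h => hd1 (hT1le (h hdT2))
    rw [hT1card, hn2] at hge
    have h17 : 17 ≤ n2 := by
      by_contra hlt
      have : 2 ^ n2 ≤ 2 ^ 16 := Nat.pow_le_pow_right (by norm_num) (by omega)
      omega
    have hdvd : 2 ^ n2 ∣ 2 ^ 17 * 405 := by rw [← hn2, ← hcz]; exact Subgroup.card_dvd_of_le hT2le
    have h' : 2 ^ n2 ∣ 2 ^ 17 :=
      (Nat.Coprime.pow_left n2 (by norm_num : Nat.Coprime 2 405)).dvd_of_dvd_mul_right hdvd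
    have := Nat.pow_dvd_pow_iff_le_right (show 1 < 2 by norm_num) |>.1 h'
    omega
  have hidx : ¬ 2 ∣ (T2.subgroupOf (cz z)).index := by
    have h := (T2.subgroupOf (cz z)).card_mul_index
    rw [Nat.card_congr (Subgroup.subgroupOfEquivOfLe hT2le).toEquiv, hn2, hn17, hcz] at h
    have : (T2.subgroupOf (cz z)).index = 405 := Nat.eq_of_mul_eq_mul_left (by norm_num) h
    rw [this]; norm_num
  set P : Sylow 2 ↥(cz z) := (hT2p.of_equiv (Subgroup.subgroupOfEquivOfLe hT2le).symm).toSylow hidx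
  have hgp : IsPGroup 2 (Subgroup.zpowers (⟨g, hg.1⟩ : ↥(cz z))) := by
    have h1 : g ^ 2 ^ (e + 10) = 1 := by
      have := congrArg Subtype.val (pow_card_eq_one' (x := (⟨g ^ 2 ^ e, he⟩ : ↥J)))
      rw [S.card, SubmonoidClass.coe_pow] at this
      rw [pow_add, pow_mul]
      exact this
    obtain ⟨i, -, hi⟩ := (Nat.dvd_prime_pow Nat.prime_two).1 (orderOf_dvd_of_pow_eq_one
      (show (⟨g, hg.1⟩ : ↥(cz z)) ^ 2 ^ (e + 10) = 1 from Subtype.ext h1))
    exact IsPGroup.of_card (n := i) (by rw [Nat.card_zpowers, hi])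
  obtain ⟨Q, hQ⟩ := hgp.exists_le_sylow
  obtain ⟨B, hB⟩ := MulAction.exists_smul_eq ↥(cz z) Q P
  have hBg : (B : G) * g * (B : G)⁻¹ ∈ T2 := by
    have h : B * ⟨g, hg.1⟩ * B⁻¹ ∈ (P : Subgroup ↥(cz z)) := by
      rw [← hB, Sylow.coe_subgroup_smul]
      simpa using Subgroup.smul_mem_pointwise_smul (a := MulAut.conj B) _ (Q : Subgroup ↥(cz z))
        (hQ (Subgroup.mem_zpowers _))
    exact h
  have hB' : (B : G) ∈ cza z a := by
    by_cases h : (B : G) ∈ H1
    · exact T.inner.le h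
    · have := T.inner.prod d⁻¹ (inv_mem hdc.1) B B.2 (fun h' => hd1 (by simpa using inv_mem h')) h
      simpa using mul_mem hdc (T.inner.le this)
  refine ⟨B, hB', s, hs, ?_⟩
  have hout : (B : G) * g * (B : G)⁻¹ ∉ H1 := fun h => hg1 (by
    have := T.inner.norm (B : G)⁻¹ (inv_mem B.2) _ h
    simpa [mul_assoc] using this)
  set t := d⁻¹ * ((B : G) * g * (B : G)⁻¹) with ht
  have htH : t ∈ H1 := T.inner.prod d⁻¹ (inv_mem hdc.1) _ (mul_mem (mul_mem B.2 hg.1) (inv_mem B.2))
    (fun h' => hd1 (by simpa using inv_mem h')) hout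
  have htT : t ∈ T1 := by
    have hle : T1 ≤ T2 ⊓ H1 := le_inf le_sup_left hT1le
    have hp : IsPGroup 2 ↥(T2 ⊓ H1) := hT2p.to_le inf_le_left
    obtain ⟨i, hi⟩ := IsPGroup.iff_card.1 hp
    have hd' : 2 ^ i ∣ 2 ^ 16 * 405 := by
      rw [← hi, show 2 ^ 16 * 405 = 1024 * 25920 from rfl, ← T.inner.card]
      exact Subgroup.card_dvd_of_le inf_le_right
    have h' : 2 ^ i ∣ 2 ^ 16 :=
      (Nat.Coprime.pow_left i (by norm_num : Nat.Coprime 2 405)).dvd_of_dvd_mul_right hd'
    have he' : T1 = T2 ⊓ H1 := Subgroup.eq_of_le_of_card_ge hle (by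
      rw [hi, hT1card]; exact Nat.le_of_dvd (by norm_num) h')
    rw [he']
    exact Subgroup.mem_inf.2 ⟨T2.mul_mem (T2.inv_mem hdT2) hBg, htH⟩
  obtain ⟨v, hv, ev⟩ := sylP_mem ((hmem1 htH).1 htT)
  refine ⟨v, hv, ?_⟩
  have h1 := T.acts_mul S (T.h1_cz htH) had (T.acts_word htH (sylL_pts hv) ev)
  rw [ht, mul_inv_cancel_left] at h1
  refine T.acts_join h1 fun y hy u hu => ?_
  rw [wM_join hm v hy hu, oM_join hm s [] (six_lt v hy) hu, oM_join hm s v hy hu]
  rfl

end Frame

end Cfsg.Agent.Lib.Fi22Recog95.Mod
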