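import Cfsg.Agent.Lib.Fi22Recog95.Mod.NatInner
import Cfsg.Agent.Lib.Fi22Recog95.Mod.Six

/-!
Recognition of Fi22, the module: an inner involution moves its fixed points by `z` at most.

Owner: helper7 (for helper95).
-/

set_option autoImplicit false
set_option linter.style.haveILetI false
set_option maxRecDepth 20000

namespace Cfsg.Agent.Lib.Fi22Recog95.Mod

open Cfsg.Agent.Lib.U62Cent47 Cfsg.Agent.Lib.U62Recog47

universe u

variable {G : Type u} [Group G] {z a : G} {J H1 : Subgroup G}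

/-- `h` moves `j` by an element of `{1, z}` -/
def Small (z h j : G) : Prop := h * j * h⁻¹ * j⁻¹ = 1 ∨ h * j * h⁻¹ * j⁻¹ = z

theorem small_mul_z (S : Hyp z a J) {w : G} (hw : w = 1 ∨ w = z) {v : G} (hv : v = 1 ∨ v = z) :
    w * v = 1 ∨ w * v = z := by
  rcases hw with rfl | rfl <;> rcases hv with rfl | rfl <;> simp [S.zz]

theorem small_z_inv (S : Hyp z a J) {w : G} (hw : w = 1 ∨ w = z) : w⁻¹ = 1 ∨ w⁻¹ = z := by
  rcases hw with rfl | rfl <;> simp [S.zinv]

theorem small_z_conj {g w : G} (hg : g ∈ cz z) (hw : w = 1 ∨ w = z) :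
    g * w * g⁻¹ = 1 ∨ g * w * g⁻¹ = z := by
  rcases hw with rfl | rfl
  · simp
  · exact Or.inr (mem_cz_conj.1 hg)

variable (S : Hyp z a J)

include S

theorem small_mul {h b c : G} (hh : h ∈ cz z) (hb : b ∈ J) (hc : c ∈ J) (hcv : InZ z a (h * c * h⁻¹ * c⁻¹))
    (h1 : Small z h b) (h2 : Small z h c) : Small z h (b * c) := by
  have e : h * (b * c) * h⁻¹ * (b * c)⁻¹ = (h * b * h⁻¹ * b⁻¹) * (h * c * h⁻¹ * c⁻¹) := by
    have hq := S.inZ_comm hcv hb
    calc h * (b * c) * h⁻¹ * (b * c)⁻¹ =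
        h * b * h⁻¹ * ((h * c * h⁻¹ * c⁻¹) * b⁻¹) := by group
      _ = h * b * h⁻¹ * (b⁻¹ * (h * c * h⁻¹ * c⁻¹)) := by
          congr 1
          rw [eq_inv_mul_iff_mul_eq, ← mul_assoc, hq, mul_inv_cancel_right]
      _ = _ := by group
  unfold Small
  rw [e]
  exact small_mul_z S h1 h2

theorem small_iv {h j : G} (hh : h ∈ cza z a) (h2 : h * h ∈ J) (hj : j ∈ IV z a J h) : Small z h j := by
  obtain ⟨k, hk, w, hw, rfl⟩ := hj
  set u := h * k * h⁻¹ * k⁻¹ with hu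
  have huJ : u ∈ J := mul_mem (S.norm h hh.1 k hk) (inv_mem hk)
  set c := h * h * k * (h * h)⁻¹ * k⁻¹ with hc
  have hcz : c = 1 ∨ c = z := S.comJ h2 hk
  have e1 : h * (u * w) * h⁻¹ * (u * w)⁻¹ = h * u * h⁻¹ * u⁻¹ := by
    have hf := S.inZ_fix hh hw
    calc h * (u * w) * h⁻¹ * (u * w)⁻¹ = h * u * h⁻¹ * (h * w * h⁻¹ * w⁻¹) * u⁻¹ := by group
      _ = _ := by rw [hf, mul_inv_cancel]; group
  have e2 : h * u * h⁻¹ * u⁻¹ = c * (u * u)⁻¹ := by
    rw [hc, hu]; group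
  rw [Small, e1, e2]
  exact small_mul_z S hcz (small_z_inv S (S.sq u huJ))

theorem small_inZ {h w : G} (hh : h ∈ cza z a) (hw : InZ z a w) : Small z h w :=
  Or.inl (by rw [S.inZ_fix hh hw, mul_inv_cancel])

/-- commutators with an element centralising `h` modulo `J` -/
theorem small_moves {h n j : G} (hh : h ∈ cza z a) (hn : n ∈ cza z a) (hc : CommMod J n h)
    (hj : j ∈ CV z a J h) : Small z h (n * j * n⁻¹ * j⁻¹) := by
  obtain ⟨hjJ, hjc⟩ := hj
  set c := h * j * h⁻¹ * j⁻¹ with hcdef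
  -- `h` and its conjugate differ in `J`
  set i := h⁻¹ * (n⁻¹ * h * n) with hi
  have hiJ : i ∈ J := by
    rw [show i = h⁻¹ * (n⁻¹ * (n * h * n⁻¹ * h⁻¹) * n)⁻¹ * h⁻¹⁻¹ by rw [hi]; group]
    refine S.norm _ (inv_mem hh.1) _ (inv_mem ?_)
    simpa using S.norm n⁻¹ (inv_mem hn.1) _ hc
  have hd := S.comJ hiJ hjJ
  set d := i * j * i⁻¹ * j⁻¹ with hddef
  have hdz : d = 1 ∨ d = z := hd
  have hdh : h * d * h⁻¹ = d := by
    rcases hdz with e | e <;> rw [e]
    · simp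
    · exact mem_cz_conj.1 hh.1
  have e1 : h * (n * j * n⁻¹) * h⁻¹ * (n * j * n⁻¹)⁻¹ = n * (d * c) * n⁻¹ := by
    have : h * (i * j * i⁻¹) * h⁻¹ * j⁻¹ = d * c := by
      calc h * (i * j * i⁻¹) * h⁻¹ * j⁻¹ = h * d * h⁻¹ * c := by rw [hddef, hcdef]; group
        _ = _ := by rw [hdh]
    rw [← this, hi]; group
  have hnj := S.norm n hn.1 j hjJ
  have hfix : n * c * n⁻¹ = c := S.inZ_fix hn hjc
  have e2 : h * (n * j * n⁻¹ * j⁻¹) * h⁻¹ * (n * j * n⁻¹ * j⁻¹)⁻¹ = n * d * n⁻¹ := by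
    have hcomm : ∀ x ∈ J, x * c = c * x := fun x hx => S.inZ_comm hjc hx
    calc h * (n * j * n⁻¹ * j⁻¹) * h⁻¹ * (n * j * n⁻¹ * j⁻¹)⁻¹
        = h * (n * j * n⁻¹) * h⁻¹ * (j⁻¹ * c⁻¹) * j * (n * j * n⁻¹)⁻¹ := by rw [hcdef]; group
      _ = h * (n * j * n⁻¹) * h⁻¹ * c⁻¹ * (n * j * n⁻¹)⁻¹ := by
          rw [S.inZ_inv hjc, hcomm _ (inv_mem hjJ)]; group
      _ = h * (n * j * n⁻¹) * h⁻¹ * (n * j * n⁻¹)⁻¹ * c⁻¹ := by
          rw [mul_assoc, mul_assoc (h * (n * j * n⁻¹) * h⁻¹) (n * j * n⁻¹)⁻¹, S.inZ_inv hjc,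
            hcomm _ (inv_mem hnj)]
      _ = n * d * (c * n⁻¹) * c⁻¹ := by rw [e1]; group
      _ = n * d * (n⁻¹ * c) * c⁻¹ := by
          have : c * n⁻¹ = n⁻¹ * c := by
            rw [eq_inv_mul_iff_mul_eq, ← mul_assoc, hfix]
          rw [this]
      _ = n * d * n⁻¹ := by group
  rw [Small, e2]
  exact small_z_conj hn.1 hdz

/-- an element of `J` centralised by `H1` modulo the centre is moved by `z` at most -/
theorem small_of_fixed [Finite G] (hI : Inner z a J H1) {j : G} (hj : j ∈ J)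
    (hfix : ∀ g ∈ H1, InZ z a (g * j * g⁻¹ * j⁻¹)) : ∀ g ∈ H1, Small z g j := by
  have hom : ∀ g ∈ H1, ∀ k ∈ H1, g * k * j * (g * k)⁻¹ * j⁻¹ =
      (k * j * k⁻¹ * j⁻¹) * (g * j * g⁻¹ * j⁻¹) := by
    intro g hg k hk
    calc g * k * j * (g * k)⁻¹ * j⁻¹
        = g * (k * j * k⁻¹ * j⁻¹) * g⁻¹ * (g * j * g⁻¹ * j⁻¹) := by group
      _ = _ := by rw [S.inZ_fix (hI.le hg) (hfix k hk)]
  let N : Subgroup G :=
    { carrier := {g | g ∈ H1 ∧ Small z g j}
      one_mem' := ⟨one_mem _, Or.inl (by group)⟩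
      mul_mem' := by
        rintro g k ⟨hg, hg'⟩ ⟨hk, hk'⟩
        refine ⟨mul_mem hg hk, ?_⟩
        rw [Small, hom g hg k hk]
        exact small_mul_z S hk' hg'
      inv_mem' := by
        rintro g ⟨hg, hg'⟩
        refine ⟨inv_mem hg, ?_⟩
        have h1 := hom g hg g⁻¹ (inv_mem hg)
        rw [show g * g⁻¹ * j * (g * g⁻¹)⁻¹ * j⁻¹ = 1 by group] at h1
        rw [Small, eq_inv_of_mul_eq_one_left h1.symm]
        exact small_z_inv S hg' }
  have hN1 : N ≤ H1 := fun g hg => hg.1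
  have hJN : J ≤ N := fun g hg => ⟨hI.ge hg, S.comJ hg hj⟩
  have hnorm : ∀ g ∈ H1, ∀ n ∈ N, g * n * g⁻¹ ∈ N := by
    rintro g hg n ⟨hn, hn'⟩
    refine ⟨mul_mem (mul_mem hg hn) (inv_mem hg), ?_⟩
    have h1 := hom (g * n) (mul_mem hg hn) g⁻¹ (inv_mem hg)
    have h2 := hom g hg n hn
    have h3 := hom g hg g⁻¹ (inv_mem hg)
    rw [show g * g⁻¹ * j * (g * g⁻¹)⁻¹ * j⁻¹ = 1 by group] at h3
    rw [Small, h1, h2, eq_inv_of_mul_eq_one_left h3.symm]
    have hc := S.inZ_comm (hfix g hg) (S.inZ_mem (hfix n hn))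
    rw [hc, ← mul_assoc, inv_mul_cancel, one_mul]
    exact hn'
  rcases hI.simple N hJN hN1 hnorm with h | h
  · exfalso
    have h2 : Nat.card H1 ≤ 4 * Nat.card N := by
      classical
      have := Fintype.ofFinite G
      let F : ↥H1 → G := fun g => (g : G) * j * (g : G)⁻¹ * j⁻¹
      have hsub : ∀ g k : ↥H1, F g = F k → (g : G) * (k : G)⁻¹ ∈ N := by
        intro g k e
        refine ⟨mul_mem g.2 (inv_mem k.2), ?_⟩
        have h3 := hom k k.2 (k : G)⁻¹ (inv_mem k.2)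
        rw [show (k : G) * (k : G)⁻¹ * j * ((k : G) * (k : G)⁻¹)⁻¹ * j⁻¹ = 1 by group] at h3
        rw [Small, hom g g.2 _ (inv_mem k.2), show (g : G) * j * (g : G)⁻¹ * j⁻¹ = k * j * (k : G)⁻¹ * j⁻¹ from e,
          ← h3]
        exact Or.inl rfl
      have hz : (Hyp.zs S : Set G).toFinset.card = 4 := by
        rw [← Set.ncard_eq_toFinset_card', ← Nat.card_coe_set_eq]; exact Hyp.card_zs S
      rw [Nat.card_eq_fintype_card, ← Finset.card_univ,
        Finset.card_eq_sum_card_fiberwise (f := F) (t := (Hyp.zs S : Set G).toFinset)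
          (fun g _ => by simp only [Set.mem_toFinset, Finset.mem_coe]; exact hfix g g.2)]
      refine (Finset.sum_le_card_nsmul _ _ (Nat.card N) fun w _ => ?_).trans (by rw [hz, smul_eq_mul])
      by_cases hne : (Finset.univ.filter fun g : ↥H1 => F g = w).Nonempty
      · obtain ⟨k, hk⟩ := hne
        rw [Finset.mem_filter] at hk
        rw [Nat.card_eq_fintype_card, ← Finset.card_univ]
        refine Finset.card_le_card_of_injOn
          (fun g => if hg : (g : G) * (k : G)⁻¹ ∈ N then ⟨(g : G) * (k : G)⁻¹, hg⟩ else 1)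
          (fun g _ => Finset.mem_univ _) ?_
        intro g hg g' hg' e
        simp only [Finset.mem_coe, Finset.mem_filter] at hg hg'
        simp only [dif_pos (hsub g k (hg.2.trans hk.2.symm)), dif_pos (hsub g' k (hg'.2.trans hk.2.symm)),
          Subtype.mk.injEq, mul_left_inj] at e
        exact Subtype.ext e
      · rw [Finset.not_nonempty_iff_eq_empty.1 hne, Finset.card_empty]
        exact Nat.zero_le _
    have h3 := hI.card
    have h4 := S.card
    rw [h] at h2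
    omega
  · intro g hg
    exact (h.ge hg).2

namespace Frame

variable (T : Frame z a J H1)

include T

theorem split [Finite G] {h : G} (hh : h ∈ H1) (hsq : h * h ∈ J) {j : G} (hj : j ∈ CV z a J h) :
    Small z h j := by
  by_cases hJ : h ∈ J
  · exact S.comJ hJ hj.1
  have h2 : Inv2 J h := ⟨hsq, hJ⟩
  have hhc := T.inner.le hh
  have hcv : ∀ x, x ∈ CV z a J h → InZ z a (h * x * h⁻¹ * x⁻¹) := fun x hx => hx.2
  have hmul : ∀ x y, x ∈ CV z a J h → y ∈ CV z a J h → Small z h x → Small z h y → Small z h (x * y) :=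
    fun x y hx hy => small_mul S hhc.1 hx.1 hy.1 hy.2
  -- it suffices to write the code as a sum of codes of small elements
  have fin : ∀ x, x ∈ CV z a J h → ∀ y, y ∈ CV z a J h → T.π x = T.π y → Small z h y → Small z h x := by
    intro x hx y hy e hy'
    have hw := (T.inZ_div hx.1 hy.1).2 e
    rw [show x = x * y⁻¹ * y by group]
    exact hmul _ _ ⟨S.inZ_mem hw, by
      rw [S.inZ_fix hhc hw, mul_inv_cancel]; exact Or.inl rfl⟩ hy (small_inZ S hhc hw) hy'
  have move : ∀ n ∈ H1, CommMod J n h → ∀ x ∈ CV z a J h,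
      n * x * n⁻¹ * x⁻¹ ∈ CV z a J h ∧ Small z h (n * x * n⁻¹ * x⁻¹) := by
    intro n hn hc x hx
    have hs := small_moves S hhc (T.inner.le hn) hc hx
    refine ⟨⟨mul_mem (S.norm n (T.h1_cz hn) x hx.1) (inv_mem hx.1), ?_⟩, hs⟩
    rcases hs with e | e
    · exact Or.inl e
    · exact Or.inr (Or.inl e)
  have image : ∀ x ∈ J, ∀ {f : Nat → Nat}, Acts T h f → ∀ k < 256, f k ^^^ k = T.π x →
      x ∈ CV z a J h ∧ Small z h x := by
    intro x hx f hf k hk e
    have hiv : x ∈ IV z a J h := (T.mem_IV S hhc.1 hf).2 ⟨hx, k, hk, e⟩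
    exact ⟨S.iv_le_cv hhc hsq hiv, small_iv S hhc hsq hiv⟩
  rcases Nat.lt_or_ge T.m 2 with hm | hm
  · -- six
    obtain ⟨k, hk, w, hw, ew⟩ := T.exists_form S hh h2
    have hkc := T.h1_cz hk
    obtain ⟨e, he, hew⟩ := List.any_eq_true.1 (List.all_eq_true.1 sixN_cover w hw)
    have hew' : e.1 = w := eq_of_beq hew
    have hok := List.all_eq_true.1 sixN_ok e he
    simp only [Bool.and_eq_true, List.all_eq_true, List.contains_iff_mem, hew'] at hok
    obtain ⟨⟨⟨hpts, -⟩, hcm⟩, -⟩ := hok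
    -- move everything back to `h`
    obtain ⟨v, hv, ev, hav⟩ := T.exists_acts hh
    obtain ⟨l, hl, el⟩ : ∃ l, (∀ x ∈ l, x ∈ ptsL) ∧ wS l = T.φ ⟨k, hk⟩ := T.exists_word ⟨k, hk⟩
    have hlr : ∀ x ∈ l.reverse, x ∈ ptsL := fun x hx => hl x (List.mem_reverse.1 hx)
    have hnw : ∀ x ∈ l.reverse ++ (e.2 ++ l), x ∈ ptsL := fun x hx => by
      simp only [List.mem_append] at hx
      rcases hx with hx | hx | hx
      exacts [hlr x hx, hpts x hx, hl x hx]
    obtain ⟨n, hn, en, han⟩ := T.exists_lift hnw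
    have hcm' : wS w * wS e.2 = wS e.2 * wS w := by rw [← wS_append, ← wS_append, wS_of_eqW hcm]
    have hconjw : wS w = wS l * wS v * (wS l)⁻¹ := by rw [← ew, T.φ_conj hk hh, el, ev]
    have hc : CommMod J n h := by
      rw [T.commMod_φ hn hh, en, ← ev, wS_append, wS_append, wS_reverse hl]
      have : wS v = (wS l)⁻¹ * wS w * wS l := by rw [hconjw]; group
      rw [this]
      calc (wS l)⁻¹ * (wS e.2 * wS l) * ((wS l)⁻¹ * wS w * wS l)
          = (wS l)⁻¹ * (wS e.2 * wS w) * wS l := by group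
        _ = (wS l)⁻¹ * (wS w * wS e.2) * wS l := by rw [hcm']
        _ = _ := by group
    have hwv : ∀ y < 256, wM T.m l (wM T.m v (wM T.m l.reverse y)) = wM T.m w y := by
      intro y hy
      rw [← wM_append, ← wM_append]
      refine T.wM_congr (fun x hx => ?_) (invL_pts hw) ?_ y hy
      · simp only [List.mem_append] at hx
        rcases hx with (hx | hx) | hx
        exacts [hl x hx, hv x hx, hlr x hx]
      · rw [wS_append, wS_append, wS_reverse hl, hconjw]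
    -- the code of `j`
    obtain ⟨hjJ, hfj⟩ := (T.mem_CV S hhc.1 hav).1 hj
    obtain ⟨y0, u0, p3, -⟩ := joinC_split _ (T.π_lt j hjJ)
    generalize hy0 : T.π j &&& 63 = y at y0 p3
    generalize hu0 : T.π j >>> 6 = u at u0 p3
    rw [← p3, wM_join hm v y0 u0] at hfj
    have hfy : wM 0 v y = y := (joinC_inj (six_lt v y0) y0 u0 u0 hfj).1
    have w6 : ∀ y < 64, wM 0 l (wM 0 v (wM 0 l.reverse y)) = wM 0 w y := by
      intro y hy
      have := hwv y (by omega)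
      rwa [wM_six hm l.reverse (by omega), wM_six hm v (wM_lt _ _ (by omega)),
        wM_six hm l (wM_lt _ _ (wM_lt _ _ (by omega))), wM_six hm w (by omega)] at this
    have hfw : wM 0 w (wM 0 l y) = wM 0 l y := by
      rw [← w6 _ (six_lt l y0), (wM_rev hl y0).2, hfy]
    have hsplit := List.all_eq_true.1 (List.all_eq_true.1 sixSplit_ok e he) _
      (List.mem_range.2 (six_lt l y0))
    simp only [hew', Bool.or_eq_true, Bool.not_eq_true', beq_eq_false_iff_ne, List.any_eq_true,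
      List.mem_range, Bool.and_eq_true, beq_iff_eq] at hsplit
    obtain ⟨x, hx, hxf, i, hi, hsum⟩ := hsplit.resolve_left (not_not.2 hfw)
    -- pull back by `l`
    set x' := wM 0 l.reverse x with hx'def
    set i' := wM 0 l.reverse i with hi'def
    have hx' : x' < 64 := six_lt _ hx
    have hi' : i' < 64 := six_lt _ hi
    have hxf' : wM 0 v x' = x' := by
      have := w6 x hx
      rw [hxf] at this
      conv_rhs => rw [hx'def, ← this]
      rw [(wM_rev hl (six_lt v (six_lt l.reverse hx))).2]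
    obtain ⟨bx, hbx, πx⟩ := T.π_surj x' (by omega)
    have hbxcv : bx ∈ CV z a J h := (T.mem_CV S hhc.1 hav).2 ⟨hbx, by rw [πx]; exact mem_fix hx' hxf' hm⟩
    obtain ⟨m1, m1s⟩ := move n hn hc bx hbxcv
    obtain ⟨bi, hbi, πi⟩ := T.π_surj (wM T.m v i' ^^^ i') (xor_lt8 (wM_lt _ _ (by omega)) (by omega))
    obtain ⟨m2, m2s⟩ := image bi hbi hav i' (by omega) πi.symm
    obtain ⟨bu, hbu, πu⟩ := T.π_surj (joinC 0 u) (joinC_ok 0 (by norm_num) u u0).1
    have hfixu : ∀ g ∈ H1, InZ z a (g * bu * g⁻¹ * bu⁻¹) := fun g hg => by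
      obtain ⟨r, -, -, har⟩ := T.exists_acts hg
      exact ((T.mem_CV S (T.h1_cz hg) har).2 ⟨hbu, by rw [πu, wM_join hm r (by norm_num) u0, wM_zero]⟩).2
    have m3 : bu ∈ CV z a J h := ⟨hbu, hfixu h hh⟩
    have m3s := small_of_fixed S T.inner hbu hfixu h hh
    have m12 : n * bx * n⁻¹ * bx⁻¹ * bi ∈ CV z a J h := ⟨mul_mem m1.1 m2.1,
      ((S.mem_cvs (h := h)).1 (mul_mem ((S.mem_cvs (h := h)).2 m1) ((S.mem_cvs (h := h)).2 m2))).2⟩
    refine fin j hj (n * bx * n⁻¹ * bx⁻¹ * bi * bu)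
      ((S.mem_cvs (h := h)).1 (mul_mem ((S.mem_cvs (h := h)).2 m12) ((S.mem_cvs (h := h)).2 m3))) ?_
      (hmul _ _ m12 m3 (hmul _ _ m1 m2 m1s m2s) m3s)
    have hn1 := S.norm n (T.h1_cz hn) bx hbx
    rw [T.π_mul _ (mul_mem (mul_mem hn1 (inv_mem hbx)) hbi) _ hbu,
      T.π_mul _ (mul_mem hn1 (inv_mem hbx)) _ hbi, T.π_mul _ hn1 _ (inv_mem hbx), T.π_inv hbx,
      han bx hbx, πx, πi, πu, wM_six hm _ (by omega : x' < 256), wM_six hm v (by omega : i' < 256),
      wM_append, wM_append]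
    rw [← p3, show joinC y u = y ^^^ joinC 0 u by simp [joinC]]
    congr 1
    have e1 : wM 0 l x' = x := (wM_rev hl hx).1
    have e2 : wM 0 v i' = wM 0 l.reverse (wM 0 w i) := by
      rw [← w6 i hi, (wM_rev hl (six_lt v hi')).2]
    rw [e1, e2, hx'def, hi'def]
    have hadd := (add6_wM l.reverse).2
    rw [← hadd _ _ (six_lt e.2 hx) hx, ← hadd _ _ (six_lt w hi) hi,
      ← hadd _ _ (Nat.xor_lt_two_pow (n := 6) (six_lt e.2 hx) hx)
        (Nat.xor_lt_two_pow (n := 6) (six_lt w hi) hi), hsum, (wM_rev hl y0).2]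
  · -- natural: moves of a fixed point free element give everything
    have hm2 : T.m = 2 := by have := T.hm; omega
    obtain ⟨n, hn, -, hfree, hc, -⟩ := T.nat_fix S hm2 hh h2
    obtain ⟨f, hf⟩ := T.exists_map S hhc.1
    obtain ⟨g, hg⟩ := T.exists_map S (T.h1_cz hn)
    have hcomm := (T.commMod_iff S (T.inner.le hn) hhc hg hf).1 hc
    set A := ((List.range 256).filter fun x => f x == x).toFinset with hA
    have hmem : ∀ {x}, x ∈ A ↔ x < 256 ∧ f x = x := fun {x} => by simp [hA]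
    have hinj : Set.InjOn (fun x => g x ^^^ x) (A : Set Nat) := by
      intro x hx y hy e
      obtain ⟨hx1, -⟩ := hmem.1 hx
      obtain ⟨hy1, -⟩ := hmem.1 hy
      simp only at e
      have hsum : g (x ^^^ y) = x ^^^ y := by
        rw [T.acts_xor S (T.h1_cz hn) hg hx1 hy1]
        have h1 : g x ^^^ x ^^^ (g y ^^^ y) = 0 := by rw [e, Nat.xor_self]
        rw [xor_swap4] at h1
        exact Nat.xor_eq_zero_iff.1 h1
      obtain ⟨b, hb, hπ⟩ := T.π_surj (x ^^^ y) (xor_lt8 hx1 hy1)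
      have := hfree ((T.mem_CV S (T.h1_cz hn) hg).2 ⟨hb, by rw [hπ, hsum]⟩)
      have h0 := (T.π_zero b hb).2 this
      rw [hπ, Nat.xor_eq_zero_iff] at h0
      exact h0
    have himg : A.image (fun x => g x ^^^ x) = A := by
      refine Finset.eq_of_subset_of_card_le (fun y hy => ?_) (by rw [Finset.card_image_of_injOn hinj])
      obtain ⟨x, hx, rfl⟩ := Finset.mem_image.1 hy
      obtain ⟨hx1, hx2⟩ := hmem.1 hx
      refine hmem.2 ⟨xor_lt8 (T.acts_lt S (T.h1_cz hn) hg hx1) hx1, ?_⟩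
      rw [T.acts_xor S hhc.1 hf (T.acts_lt S (T.h1_cz hn) hg hx1) hx1, ← hcomm x hx1, hx2]
    obtain ⟨hjJ, hfj⟩ := (T.mem_CV S hhc.1 hf).1 hj
    have : T.π j ∈ A := hmem.2 ⟨T.π_lt j hjJ, hfj⟩
    rw [← himg, Finset.mem_image] at this
    obtain ⟨x, hx, hxe⟩ := this
    obtain ⟨hx1, hx2⟩ := hmem.1 hx
    obtain ⟨b, hb, hπ⟩ := T.π_surj x hx1
    have hbcv : b ∈ CV z a J h := (T.mem_CV S hhc.1 hf).2 ⟨hb, by rw [hπ, hx2]⟩
    obtain ⟨m1, m1s⟩ := move n hn hc b hbcv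
    refine fin j hj _ m1 ?_ m1s
    rw [T.π_mul _ (S.norm n (T.h1_cz hn) b hb) _ (inv_mem hb), T.π_inv hb, hg b hb, hπ, hxe]

end Frame

end Cfsg.Agent.Lib.Fi22Recog95.Mod
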