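import Cfsg.Agent.Lib.Fi22Recog95.Mod.Checks
import Cfsg.Agent.Lib.Fi22Recog95.Mod.Inner

/-!
Recognition of Fi22, the module: every 2-element of SU(4, 2) is conjugate into the coded Sylow subgroup;
the involutions are transvections and products of two commuting ones.

Owner: helper7 (for helper95).
-/

set_option autoImplicit false
set_option linter.style.haveILetI false
set_option maxRecDepth 20000

namespace Cfsg.Agent.Lib.Fi22Recog95.Mod

open Cfsg.Agent.Lib.U62Cent47 Cfsg.Agent.Lib.U62Recog47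

theorem conj_mul' {M : Type*} [Group M] (B X Y : M) : B * X * B⁻¹ * (B * Y * B⁻¹) = B * (X * Y) * B⁻¹ := by
  group

theorem eqW_of_wS {v w : List Nat} (hv : ∀ x ∈ v, x ∈ ptsL) (hw : ∀ x ∈ w, x ∈ ptsL)
    (e : wS v = wS w) : eqW v w = true := by
  simp only [eqW, Bool.and_eq_true, List.all_eq_true, List.contains_iff_mem, beq_iff_eq]
  refine ⟨⟨hv, hw⟩, fun j hj => ?_⟩
  have h := wS_vec hv (2 ^ j)
  rw [e, wS_vec hw] at h
  exact (vec_inj (wN_lt _ (pow_lt (List.mem_range.1 hj))) (wN_lt _ (pow_lt (List.mem_range.1 hj))) h).symm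

theorem card_SU4 : Nat.card SU4 = 25920 := by
  haveI : Fact (Nat.Prime 3) := ⟨by norm_num⟩
  obtain ⟨i⟩ := psp_iso (F := ZMod 3) (ZMod.card 3)
  rw [Nat.card_congr i.toEquiv, psp_card (F := ZMod 3) (ZMod.card 3)]

theorem sylL_pts {w : List Nat} (hw : w ∈ sylL) : ∀ x ∈ w, x ∈ ptsL := by
  have := List.all_eq_true.1 sylL_cases_ok w hw
  simp only [Bool.and_eq_true, List.all_eq_true, List.contains_iff_mem] at this
  exact this.1

/-- the coded Sylow subgroup -/
noncomputable def sylP : Subgroup SU4 := Subgroup.closure {A | ∃ g ∈ sylGen, wS g = A}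

theorem sylP_mem {A : SU4} (hA : A ∈ sylP) : ∃ w ∈ sylL, wS w = A := by
  rw [sylP, ← Subgroup.mem_toSubmonoid, Subgroup.closure_toSubmonoid_of_finite] at hA
  induction hA using Submonoid.closure_induction_left with
  | one => exact ⟨[], by decide +kernel, rfl⟩
  | mul_left A hA B _ hB =>
    obtain ⟨g, hg, rfl⟩ := hA
    obtain ⟨w, hw, rfl⟩ := hB
    obtain ⟨i, hi, rfl⟩ := List.mem_iff_getElem.1 hg
    obtain ⟨k, hk, rfl⟩ := List.mem_iff_getElem.1 hw
    have hi6 : i < 6 := hi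
    have hk64 : k < 64 := sylL_nodup_ok.2 ▸ hk
    have h := List.all_eq_true.1 (List.all_eq_true.1 sylTab_ok i (List.mem_range.2 hi6)) k
      (List.mem_range.2 hk64)
    simp only [Bool.and_eq_true, decide_eq_true_eq] at h
    rw [List.getD_eq_getElem _ _ hi, List.getD_eq_getElem _ _ hk] at h
    refine ⟨_, ?_, (wS_of_eqW h.2).symm.trans (wS_append _ _)⟩
    have hlt : (sylTab.getD i []).getD k 0 < sylL.length := sylL_nodup_ok.2 ▸ h.1
    rw [List.getD_eq_getElem _ _ hlt]
    exact List.getElem_mem _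

theorem card_sylP_le : Nat.card sylP ≤ 64 := by
  classical
  have hsub : (sylP : Set SU4) ⊆ ((sylL.map wS).toFinset : Set SU4) := fun A hA => by
    obtain ⟨w, hw, rfl⟩ := sylP_mem hA
    simpa using ⟨w, hw, rfl⟩
  rw [← SetLike.coe_sort_coe, Nat.card_coe_set_eq]
  refine (Set.ncard_le_ncard hsub (Finset.finite_toSet _)).trans ?_
  rw [Set.ncard_coe_finset]
  exact (List.toFinset_card_le _).trans (by rw [List.length_map, sylL_nodup_ok.2])

theorem sylP_two : IsPGroup 2 sylP := fun ⟨A, hA⟩ => by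
  obtain ⟨w, hw, rfl⟩ := sylP_mem hA
  have h := List.all_eq_true.1 sylL_cases_ok w hw
  simp only [Bool.and_eq_true] at h
  refine ⟨2, Subtype.ext ?_⟩
  show wS w ^ 4 = 1
  cases e : eqW (w ++ w) []
  · rw [e] at h
    simp only [cond_false, Bool.and_eq_true] at h
    rw [← (wS_of_eqW h.2.2).trans wS_nil, wS_append, wS_append, pow_succ, pow_succ, pow_two, mul_assoc]
  · show wS w ^ (2 * 2) = 1
    rw [pow_mul, pow_two (wS w), ← wS_append, (wS_of_eqW e).trans wS_nil, one_pow]

theorem sylP_lower : ∀ w ∈ sylL, wS w ∈ sylP := by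
  intro w hw
  have hok : sylL.all (fun w => ([] :: sylGen ++ (sylGen.flatMap fun g => sylGen.flatMap fun h =>
      [g ++ h, g ++ h ++ h] ++ sylGen.flatMap fun k => [g ++ h ++ k] ++
        sylGen.flatMap fun l => [g ++ h ++ k ++ l])).any fun v => eqW v w) = true := by
    decide +kernel
  have h := List.all_eq_true.1 hok w hw
  simp only [List.any_eq_true] at h
  obtain ⟨v, hv, he⟩ := h
  rw [← wS_of_eqW he]
  have hg : ∀ g ∈ sylGen, wS g ∈ sylP := fun g hg => Subgroup.subset_closure ⟨g, hg, rfl⟩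
  simp only [List.mem_cons, List.mem_append, List.mem_flatMap, List.not_mem_nil, or_false] at hv
  rcases hv with (rfl | hv) | ⟨g, hgm, h, hh, ((rfl | rfl) | ⟨k, hk, rfl | ⟨l, hl, rfl⟩⟩)⟩
  · exact wS_nil ▸ one_mem _
  · exact hg v hv
  all_goals simp only [wS_append]
  · exact mul_mem (hg g hgm) (hg h hh)
  · exact mul_mem (mul_mem (hg g hgm) (hg h hh)) (hg h hh)
  · exact mul_mem (mul_mem (hg g hgm) (hg h hh)) (hg k hk)
  · exact mul_mem (mul_mem (mul_mem (hg g hgm) (hg h hh)) (hg k hk)) (hg l hl)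

theorem wS_injOn : (sylL.map wS).Nodup := by
  have h := sylL_nodup_ok.1
  refine List.Nodup.map_on (fun v hv w hw e => ?_) h.of_map
  refine List.inj_on_of_nodup_map h hv hw (List.map_congr_left fun j hj => ?_)
  have e' := eqW_of_wS (sylL_pts hv) (sylL_pts hw) e
  simp only [eqW, Bool.and_eq_true, List.all_eq_true, beq_iff_eq] at e'
  exact e'.2 j hj

theorem card_sylP : Nat.card sylP = 64 := by
  classical
  refine le_antisymm card_sylP_le ?_
  have hsub : ((sylL.map wS).toFinset : Set SU4) ⊆ (sylP : Set SU4) := fun A hA => by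
    obtain ⟨w, hw, rfl⟩ := by simpa using hA
    exact sylP_lower w hw
  rw [← SetLike.coe_sort_coe, Nat.card_coe_set_eq]
  refine le_trans ?_ (Set.ncard_le_ncard hsub (Set.toFinite _))
  rw [Set.ncard_coe_finset, List.toFinset_card_of_nodup wS_injOn, List.length_map, sylL_nodup_ok.2]

/-- every 2-element is conjugate into the coded Sylow subgroup -/
theorem exists_conj_syl {A : SU4} {k : ℕ} (hA : A ^ 2 ^ k = 1) :
    ∃ B : SU4, ∃ w ∈ sylL, B * A * B⁻¹ = wS w := by
  haveI : Fact (Nat.Prime 2) := ⟨Nat.prime_two⟩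
  have hidx : ¬ 2 ∣ sylP.index := by
    have h := sylP.card_mul_index
    rw [card_sylP, card_SU4] at h
    omega
  set P := sylP_two.toSylow hidx
  have hp : IsPGroup 2 (Subgroup.zpowers A) := by
    obtain ⟨i, -, hi⟩ := (Nat.dvd_prime_pow Nat.prime_two).1 (orderOf_dvd_of_pow_eq_one hA)
    exact IsPGroup.of_card (n := i) (by rw [Nat.card_zpowers, hi])
  obtain ⟨Q, hQ⟩ := hp.exists_le_sylow
  obtain ⟨B, hB⟩ := MulAction.exists_smul_eq SU4 Q P
  have hAQ : A ∈ (Q : Subgroup SU4) := hQ (Subgroup.mem_zpowers A)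
  have h : B * A * B⁻¹ ∈ sylP := by
    show B * A * B⁻¹ ∈ (P : Subgroup SU4)
    rw [← hB, Sylow.coe_subgroup_smul]
    simpa using Subgroup.smul_mem_pointwise_smul (a := MulAut.conj B) A (Q : Subgroup SU4) hAQ
  obtain ⟨w, hw, e⟩ := sylP_mem h
  exact ⟨B, w, hw, e.symm⟩

/-- an involution is conjugate to one of the twenty-seven -/
theorem exists_conj_inv {A : SU4} (h2 : A * A = 1) (h1 : A ≠ 1) :
    ∃ B : SU4, ∃ w ∈ invL, B * A * B⁻¹ = wS w := by
  obtain ⟨B, w, hw, e⟩ := exists_conj_syl (A := A) (k := 1) (by rw [pow_one, pow_two, h2])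
  refine ⟨B, w, ?_, e⟩
  have hsq : wS w * wS w = 1 := by rw [← e, conj_mul', h2, mul_one, mul_inv_cancel]
  have h := List.all_eq_true.1 sylL_cases_ok w hw
  have h2' : eqW (w ++ w) [] = true :=
    eqW_of_wS (fun x hx => (List.mem_append.1 hx).elim (sylL_pts hw x) (sylL_pts hw x)) (by simp)
      (by rw [wS_append, hsq, wS_nil])
  simp only [h2', cond_true, Bool.and_eq_true, Bool.or_eq_true, List.contains_iff_mem] at h
  refine h.2.resolve_left fun h0 => h1 ?_
  rw [(wS_of_eqW h0).trans wS_nil, conj_eq_one_iff] at e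
  exact e

/-- an element of order four is conjugate to one of the thirty-six -/
theorem exists_conj_four {A : SU4} (h4 : A * A * (A * A) = 1) (h2 : A * A ≠ 1) :
    ∃ B : SU4, ∃ w ∈ o4L, B * A * B⁻¹ = wS w := by
  obtain ⟨B, w, hw, e⟩ := exists_conj_syl (A := A) (k := 2)
    (by rw [show (2 : ℕ) ^ 2 = 2 * 2 from rfl, pow_mul, pow_two, pow_two, h4])
  refine ⟨B, w, ?_, e⟩
  have h := List.all_eq_true.1 sylL_cases_ok w hw
  cases e2 : eqW (w ++ w) []
  · rw [e2] at h
    simp only [cond_false, Bool.and_eq_true, List.contains_iff_mem] at h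
    exact h.2.1
  · refine absurd ?_ h2
    have h5 := (wS_of_eqW e2).trans wS_nil
    rw [wS_append, ← e, conj_mul', conj_eq_one_iff] at h5
    exact h5

/-- a conjugate of a transvection is one -/
theorem tv_conj (B : SU4) : ∀ a ∈ ptsL, ∃ b ∈ ptsL, B * tC a * B⁻¹ = tC b := by
  refine induction_gen (P := fun B => ∀ a ∈ ptsL, ∃ b ∈ ptsL, B * tC a * B⁻¹ = tC b) ?_ ?_ ?_ B
  · exact fun a ha => ⟨a, ha, by simp⟩
  · intro g hg a ha
    have h := List.all_eq_true.1 (List.all_eq_true.1 tv_conj_ok g hg) a ha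
    simp only [List.any_eq_true] at h
    obtain ⟨b, hb, h⟩ := h
    refine ⟨b, hb, ?_⟩
    have e := wS_of_eqW h
    rw [inv_eq_of_mul_eq_one_right (tC_sq (gen_pts g hg))]
    simpa [wS, mul_assoc] using e
  · intro A B hA hB a ha
    obtain ⟨b, hb, e⟩ := hB a ha
    obtain ⟨c, hc, e'⟩ := hA b hb
    exact ⟨c, hc, by rw [← e', ← e]; group⟩

theorem pairL_pts {w : List Nat} (hw : w ∈ pairL) : ∀ x ∈ w, x ∈ ptsL := by
  have := List.all_eq_true.1 pairL_ok w hw
  simp only [Bool.and_eq_true, List.all_eq_true, List.contains_iff_mem] at this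
  exact this.1.1.1

theorem invW_pts {w : List Nat} (hw : w ∈ invW) : ∀ x ∈ w, x ∈ ptsL := by
  rcases List.mem_append.1 hw with h | h
  · obtain ⟨a, ha, rfl⟩ := List.mem_map.1 h
    simpa using ha
  · exact pairL_pts h

/-- every involution is a transvection or the product of a commuting pair -/
theorem inv_cases {A : SU4} (h2 : A * A = 1) (h1 : A ≠ 1) :
    (∃ a ∈ ptsL, A = tC a) ∨ ∃ w ∈ pairL, A = wS w := by
  obtain ⟨B, w, hw, e⟩ := exists_conj_inv h2 h1
  have eA : A = B⁻¹ * wS w * B⁻¹⁻¹ := by rw [← e]; group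
  have h := List.all_eq_true.1 invL_ok w hw
  simp only [Bool.and_eq_true, Bool.or_eq_true, beq_iff_eq, List.contains_iff_mem, Bool.not_eq_true'] at h
  rcases h.2 with ⟨hl, ha⟩ | ⟨⟨⟨⟨hl, ha⟩, hb⟩, hc⟩, hd⟩
  · left
    obtain ⟨a, rfl⟩ := List.length_eq_one_iff.1 hl
    obtain ⟨b, hb, e'⟩ := tv_conj B⁻¹ a (by simpa using ha)
    exact ⟨b, hb, by rw [eA, wS_single, e']⟩
  · right
    obtain ⟨x, y, rfl⟩ := List.length_eq_two.1 hl
    simp only [List.getD_cons_zero, List.getD_cons_succ] at ha hb hc hd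
    obtain ⟨x', hx', ex⟩ := tv_conj B⁻¹ x ha
    obtain ⟨y', hy', ey⟩ := tv_conj B⁻¹ y hb
    have hxy : tC x * tC y = tC y * tC x := by simpa [wS] using wS_of_eqW hc
    have hne : tC x ≠ tC y := fun h' => by
      rw [eqW_of_wS (by simpa using ha) (by simpa using hb) (by simpa [wS] using h')] at hd
      exact absurd hd (by simp)
    have hc' : tC x' * tC y' = tC y' * tC x' := by rw [← ex, ← ey, conj_mul', conj_mul', hxy]
    have eA' : A = tC x' * tC y' := by rw [eA, ← ex, ← ey, conj_mul']; simp [wS]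
    have key : ∀ p ∈ ptsL, ∀ q ∈ ptsL, tC p * tC q = tC q * tC p → p < q → [p, q] ∈ pairL := by
      intro p hp q hq hpq hlt
      have h' := List.all_eq_true.1 (List.all_eq_true.1 pairL_cover p hp) q hq
      have he : eqW [p, q] [q, p] = true :=
        eqW_of_wS (by simp [hp, hq]) (by simp [hp, hq]) (by simpa [wS] using hpq)
      simpa [hlt, he] using h'
    rcases Nat.lt_trichotomy x' y' with hlt | rfl | hlt
    · exact ⟨_, key x' hx' y' hy' hc' hlt, by simp [wS, eA']⟩
    · exact absurd ((MulAut.conj B⁻¹).injective (ex.trans ey.symm)) hne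
    · exact ⟨_, key y' hy' x' hx' hc'.symm hlt, by simp [wS, eA', hc']⟩

theorem mem_invW {A : SU4} (h2 : A * A = 1) (h1 : A ≠ 1) : ∃ w ∈ invW, A = wS w := by
  rcases inv_cases h2 h1 with ⟨a, ha, e⟩ | ⟨w, hw, e⟩
  · exact ⟨[a], List.mem_append_left _ (List.mem_map.2 ⟨a, ha, rfl⟩), by rw [e, wS_single]⟩
  · exact ⟨w, List.mem_append_right _ hw, e⟩

end Cfsg.Agent.Lib.Fi22Recog95.Mod
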