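import Cfsg.Agent.Lib.Fi22Recog95.Mod.Base
import Cfsg.Agent.Lib.Fi22Recog95.Mod.Sylow

/-!
Recognition of Fi22, the module: conjugation, and the words of inner elements.

Owner: helper7 (for helper95).
-/

set_option autoImplicit false
set_option linter.style.haveILetI false
set_option maxRecDepth 20000

namespace Cfsg.Agent.Lib.Fi22Recog95.Mod

open Cfsg.Agent.Lib.U62Cent47

universe u

variable {G : Type u} [Group G] {z a : G} {J H1 : Subgroup G} (S : Hyp z a J)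

include S

theorem mem_J_conj {k x : G} (hk : k ∈ cz z) : k * x * k⁻¹ ∈ J ↔ x ∈ J :=
  ⟨fun h => by simpa [mul_assoc] using S.norm k⁻¹ (inv_mem hk) _ h, S.norm k hk x⟩

theorem inZ_conj_iff {k x : G} (hk : k ∈ cz z) : InZ z a (k * x * k⁻¹) ↔ InZ z a x :=
  ⟨fun h => by simpa [mul_assoc] using S.inZ_conj (inv_mem hk) h, S.inZ_conj hk⟩

theorem mem_CV_conj {k g j : G} (hk : k ∈ cz z) :
    k * j * k⁻¹ ∈ CV z a J (k * g * k⁻¹) ↔ j ∈ CV z a J g := by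
  refine and_congr (mem_J_conj S hk) ?_
  rw [← inZ_conj_iff S hk (x := g * j * g⁻¹ * j⁻¹)]
  exact Eq.to_iff (congrArg _ (by group))

theorem CV_conj {k g : G} (hk : k ∈ cz z) :
    CV z a J (k * g * k⁻¹) = (fun j => k * j * k⁻¹) '' CV z a J g := by
  ext j
  refine ⟨fun h => ⟨k⁻¹ * j * k, (mem_CV_conj S hk).1 ?_, by group⟩, ?_⟩
  · rwa [show k * (k⁻¹ * j * k) * k⁻¹ = j by group]
  · rintro ⟨i, hi, rfl⟩
    exact (mem_CV_conj S hk).2 hi

theorem card_CV_conj {k g : G} (hk : k ∈ cz z) :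
    Nat.card (CV z a J (k * g * k⁻¹)) = Nat.card (CV z a J g) := by
  rw [CV_conj S hk]
  exact Nat.card_image_of_injective (MulAut.conj k).injective _

theorem card_CV2_conj {k g h : G} (hk : k ∈ cz z) :
    Nat.card (CV z a J (k * g * k⁻¹) ∩ CV z a J (k * h * k⁻¹) : Set G) =
      Nat.card (CV z a J g ∩ CV z a J h : Set G) := by
  have hi : Function.Injective fun j : G => k * j * k⁻¹ := (MulAut.conj k).injective
  rw [CV_conj S hk, CV_conj S hk, ← Set.image_inter hi, Nat.card_image_of_injective hi]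

theorem mem_IV_conj {k g j : G} (hk : k ∈ cz z) :
    k * j * k⁻¹ ∈ IV z a J (k * g * k⁻¹) ↔ j ∈ IV z a J g := by
  constructor
  · rintro ⟨i, hi, w, hw, e⟩
    refine ⟨k⁻¹ * i * k, (mem_J_conj S hk).1 ?_, k⁻¹ * w * k, (inZ_conj_iff S hk).1 ?_, ?_⟩
    · rwa [show k * (k⁻¹ * i * k) * k⁻¹ = i by group]
    · rwa [show k * (k⁻¹ * w * k) * k⁻¹ = w by group]
    · rw [show j = k⁻¹ * (k * j * k⁻¹) * k by group, e]; group
  · rintro ⟨i, hi, w, hw, rfl⟩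
    exact ⟨k * i * k⁻¹, (mem_J_conj S hk).2 hi, k * w * k⁻¹, (inZ_conj_iff S hk).2 hw, by group⟩

theorem commMod_conj {k g h : G} (hk : k ∈ cz z) :
    CommMod J (k * g * k⁻¹) (k * h * k⁻¹) ↔ CommMod J g h := by
  rw [CommMod, CommMod, ← mem_J_conj S hk (x := g * h * g⁻¹ * h⁻¹)]
  exact Eq.to_iff (congrArg (· ∈ J) (by group))

theorem inv2_conj {k h : G} (hk : k ∈ cz z) : Inv2 J (k * h * k⁻¹) ↔ Inv2 J h := by
  rw [Inv2, Inv2, mem_J_conj S hk, show k * h * k⁻¹ * (k * h * k⁻¹) = k * (h * h) * k⁻¹ by group,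
    mem_J_conj S hk]

theorem sq_conj_z {k j : G} (hk : k ∈ cz z) (h : k * j * k⁻¹ * (k * j * k⁻¹) = z) : j * j = z := by
  rw [show k * j * k⁻¹ * (k * j * k⁻¹) = k * (j * j) * k⁻¹ by group] at h
  exact mul_left_cancel (mul_right_cancel (h.trans (mem_cz_conj.1 hk).symm))

omit S

theorem wS_reverse {w : List Nat} (hw : ∀ x ∈ w, x ∈ ptsL) : wS w.reverse = (wS w)⁻¹ := by
  induction w with
  | nil => rw [List.reverse_nil, wS_nil, inv_one]
  | cons x w ih =>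
    rw [List.reverse_cons, wS_append, ih fun y hy => hw y (List.mem_cons_of_mem _ hy), wS_single,
      wS_cons, mul_inv_rev, inv_eq_of_mul_eq_one_right (tC_sq (hw x List.mem_cons_self))]

theorem wS_rep (w : List Nat) (i : Nat) : wS (List.replicate i w).flatten = wS w ^ i := by
  induction i with
  | zero => rfl
  | succ i ih => rw [List.replicate_succ, List.flatten_cons, wS_append, ih, pow_succ']

namespace Frame

variable (T : Frame z a J H1) (S : Hyp z a J)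

include T

theorem h1_cz {h : G} (hh : h ∈ H1) : h ∈ cz z := (T.inner.le hh).1

theorem h1_conj {k h : G} (hk : k ∈ H1) (hh : h ∈ H1) : k * h * k⁻¹ ∈ H1 :=
  T.inner.norm k (T.h1_cz hk) h hh

theorem φ_conj {k h : G} (hk : k ∈ H1) (hh : h ∈ H1) :
    T.φ ⟨k * h * k⁻¹, T.h1_conj hk hh⟩ = T.φ ⟨k, hk⟩ * T.φ ⟨h, hh⟩ * (T.φ ⟨k, hk⟩)⁻¹ := by
  rw [← map_inv, ← map_mul, ← map_mul]; rfl

theorem φ_eq_one_of_mul {h k : G} (hh : h ∈ H1) (hk : k ∈ H1)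
    (e : T.φ ⟨h, hh⟩ * T.φ ⟨k, hk⟩ = 1) : h * k ∈ J :=
  (T.φ_ker (⟨h, hh⟩ * ⟨k, hk⟩)).1 (by rw [map_mul, e])

theorem commMod_φ {g h : G} (hg : g ∈ H1) (hh : h ∈ H1) :
    CommMod J g h ↔ T.φ ⟨g, hg⟩ * T.φ ⟨h, hh⟩ = T.φ ⟨h, hh⟩ * T.φ ⟨g, hg⟩ := by
  have h1 := T.φ_ker (⟨g, hg⟩ * ⟨h, hh⟩ * ⟨g, hg⟩⁻¹ * ⟨h, hh⟩⁻¹)
  rw [map_mul, map_mul, map_mul, map_inv, map_inv, mul_inv_eq_one, mul_inv_eq_iff_eq_mul] at h1
  exact h1.symm

include S

/-- an element of odd order over a word of odd order -/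
theorem exists_odd [Finite G] {w : List Nat} (hw : ∀ x ∈ w, x ∈ ptsL) {p e : ℕ} (hp : wS w ^ p = 1)
    (ho : Odd p) (he : 1024 ∣ e) (he1 : e % p = 1 % p) :
    ∃ n, ∃ hn : n ∈ H1, n ^ p = 1 ∧ T.φ ⟨n, hn⟩ = wS w ∧ Odd (orderOf n) := by
  obtain ⟨n₀, hn₀, e₀, -⟩ := T.exists_lift hw
  have hJ : n₀ ^ p ∈ J := (T.φ_ker (⟨n₀, hn₀⟩ ^ p)).1 (by rw [map_pow, e₀, hp])
  have h1 : (n₀ ^ p) ^ (1024 : ℕ) = 1 := by
    have := congrArg Subtype.val (pow_card_eq_one' (x := (⟨n₀ ^ p, hJ⟩ : ↥J)))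
    rwa [S.card, SubmonoidClass.coe_pow] at this
  obtain ⟨c, rfl⟩ := he
  have hp1 : (n₀ ^ (1024 * c)) ^ p = 1 := by
    rw [← pow_mul, show 1024 * c * p = p * 1024 * c by ring, pow_mul, pow_mul, h1, one_pow]
  refine ⟨n₀ ^ (1024 * c), pow_mem hn₀ _, hp1, ?_, ho.of_dvd_nat (orderOf_dvd_of_pow_eq_one hp1)⟩
  rw [show (⟨n₀ ^ (1024 * c), pow_mem hn₀ _⟩ : ↥H1) = ⟨n₀, hn₀⟩ ^ (1024 * c) from rfl, map_pow, e₀,
    ← Nat.mod_add_div (1024 * c) p, he1, pow_add, pow_mul, hp, one_pow, mul_one]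
  conv_rhs => rw [← pow_one (wS w), ← Nat.mod_add_div 1 p, pow_add, pow_mul, hp, one_pow, mul_one]

/-- fixed points from codes -/
theorem CV_le_Z {g : G} {f : Nat → Nat} (hg : g ∈ cz z) (h : Acts T g f)
    (e : ∀ n < 256, f n = n → n = 0) : CV z a J g ⊆ {w | InZ z a w} := fun j hj => by
  obtain ⟨hjJ, hfix⟩ := (T.mem_CV S hg h).1 hj
  exact (T.π_zero j hjJ).1 (e _ (T.π_lt j hjJ) hfix)

/-- an involution in a normal form -/
theorem exists_form {h : G} (hh : h ∈ H1) (h2 : Inv2 J h) :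
    ∃ k, ∃ hk : k ∈ H1, ∃ w ∈ invL, T.φ ⟨k * h * k⁻¹, T.h1_conj hk hh⟩ = wS w := by
  obtain ⟨e2, e1⟩ := (T.inv2_iff hh).1 h2
  obtain ⟨B, w, hw, e⟩ := exists_conj_inv e2 e1
  obtain ⟨⟨k, hk⟩, rfl⟩ := T.φ_surj B
  exact ⟨k, hk, w, hw, by rw [T.φ_conj hk hh, e]⟩

omit S in
/-- an involution as a word -/
theorem exists_invW {h : G} (hh : h ∈ H1) (h2 : Inv2 J h) :
    ∃ w ∈ invW, T.φ ⟨h, hh⟩ = wS w ∧ Acts T h (wM T.m w) := by
  obtain ⟨e2, e1⟩ := (T.inv2_iff hh).1 h2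
  obtain ⟨w, hw, e⟩ := mem_invW e2 e1
  exact ⟨w, hw, e, T.acts_word hh (invW_pts hw) e.symm⟩

end Frame

theorem invL_pts {w : List Nat} (hw : w ∈ invL) : ∀ x ∈ w, x ∈ ptsL := by
  have hok : invL.all (fun w => w.all fun x => ptsL.contains x) = true := by decide +kernel
  have := List.all_eq_true.1 hok w hw
  simpa [List.all_eq_true, List.contains_iff_mem] using this

theorem invL_sq {w : List Nat} (hw : w ∈ invL) : wS w * wS w = 1 := by
  have := List.all_eq_true.1 invL_ok w hw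
  simp only [Bool.and_eq_true] at this
  rw [← wS_append, wS_of_eqW this.1.1, wS_nil]

theorem cFix_congr {f g : Nat → Nat} (h : ∀ n < 256, f n = g n) : cFix f = cFix g :=
  congrArg List.length (List.filter_congr fun n hn => by rw [h n (List.mem_range.1 hn)])

end Cfsg.Agent.Lib.Fi22Recog95.Mod
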